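/-!
Tables for the centralisers of the outer involutions of the presented group Fi22.
-/

set_option autoImplicit false
set_option maxRecDepth 100000

namespace Cfsg.Agent.ThreeTransp.M22Outer.Tables

def fixedOne : List Nat :=
    [2125, 1912, 1708, 1707, 1526, 1524, 1349, 1348, 1347, 1166, 1165, 989, 988, 827, 792, 676,
    637, 550, 545, 542, 540, 473, 472, 435, 434, 431, 430, 428, 427, 425, 392, 370, 369, 343,
    341, 339, 338, 336, 292, 291, 272, 270, 267, 232, 230, 215, 184, 154, 120, 92, 89, 88, 63,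
    62, 45, 41, 40, 28, 26, 17, 16, 10, 6, 0]

def codeOne : List Nat :=
    [7, 22, 20, 21, 14, 23, 15, 13, 6, 12, 28, 29, 30, 31, 36, 5, 32, 37, 53, 38, 62, 54, 35,
    63, 33, 55, 49, 60, 34, 58, 39, 52, 50, 61, 59, 45, 51, 56, 46, 48, 44, 57, 41, 47, 42,
    40, 43, 3, 18, 4, 16, 17, 10, 19, 11, 9, 2, 8, 24, 25, 26, 27, 1, 0]

def halfOne : List Nat :=
    [2578, 2924, 2956, 2974, 2981, 2986, 2992, 2995, 3011, 3027, 3033, 3037, 3043, 3046, 3053,
    3054, 3055, 3057, 3058, 3060, 3066, 3068, 3070, 3074, 3076, 3077, 3286, 3288, 3289, 3295,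
    3300, 3302, 3303, 3305, 3309, 3311, 3313, 3315, 3317, 3318, 3320, 3321, 3329, 3330, 3332,
    3333, 3334, 3337, 3338, 3339, 3340, 3342, 3343, 3344, 3349, 3350, 3351, 3353, 3354, 3355,
    3357, 3359, 3360, 3361, 3362, 3363, 3370, 3371, 3373, 3374, 3375, 3376, 3377, 3378, 3379,
    3380, 3381, 3382, 3383, 3384, 3385, 3386, 3387, 3388, 3389, 3390, 3391, 3392, 3393, 3394,
    3395, 3396, 3476, 3477, 3478, 3479, 3480, 3482, 3483, 3484, 3485, 3486, 3487, 3488, 3489,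
    3490, 3491, 3492, 3493, 3494, 3495, 3496, 3497, 3498, 3499, 3500, 3501, 3502, 3503, 3504]

def halfTwo : List Nat :=
    [2742, 2800, 2817, 2820, 2827, 2830, 2836, 2838, 3110, 3132, 3142, 3145, 3148, 3151, 3168,
    3171, 3173, 3180, 3182, 3185, 3187, 3188, 3194, 3196, 3199, 3203, 3206, 3208, 3209, 3218,
    3219, 3221, 3225, 3227, 3230, 3232, 3233, 3237, 3239, 3240, 3243, 3245, 3246, 3248, 3253,
    3254, 3257, 3259, 3260, 3261, 3262, 3264, 3265, 3266, 3405, 3406, 3407, 3408, 3409, 3412,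
    3413, 3414, 3416, 3417, 3418, 3419, 3420, 3421, 3422, 3424, 3425, 3426, 3427, 3428, 3429,
    3430, 3431, 3432, 3433, 3434, 3439, 3440, 3441, 3442, 3443, 3444, 3445, 3446, 3447, 3448,
    3449, 3450, 3451, 3452, 3453, 3454, 3455, 3456, 3457, 3458, 3459, 3460, 3461, 3462, 3465,
    3466, 3467, 3468, 3469, 3470, 3471, 3472, 3473, 3474, 3475, 3505, 3506, 3507, 3508, 3509]

def fixedTwo : List Nat :=
    [2125, 1912, 1708, 1707, 1526, 1524, 1519, 1518, 1517, 1494, 1493, 1492, 1349, 1348, 1347,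
    1343, 1342, 1335, 1332, 1330, 1329, 1318, 1310, 1309, 1308, 1288, 1287, 1166, 1165, 1163,
    1159, 1145, 1143, 1142, 1117, 1116, 1099, 1098, 1082, 989, 988, 986, 974, 961, 928, 927,
    906, 827, 821, 796, 757, 750, 676, 666, 600, 154, 120, 92, 89, 88, 63, 62, 45, 41, 40, 28,
    26, 17, 16, 10, 6, 0]

def codeTwo : List Nat :=
    [48, 32, 18, 16, 31, 34, 20, 22, 35, 38, 19, 17, 24, 47, 50, 17, 19, 38, 25, 36, 51, 28,
    33, 20, 22, 54, 35, 40, 63, 28, 33, 54, 41, 52, 44, 25, 49, 36, 51, 56, 13, 44, 49, 57,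
    60, 41, 52, 10, 60, 11, 14, 57, 7, 14, 11, 48, 32, 5, 18, 16, 31, 34, 24, 47, 50, 40, 63,
    56, 13, 10, 7, 5]

def mateTwo : List Nat :=
    [154, 120, 89, 88, 63, 62, 1309, 1308, 1287, 1335, 1342, 1343, 45, 41, 40, 1492, 1493,
    1494, 1116, 1098, 1082, 1163, 1159, 1519, 1518, 1145, 1517, 28, 26, 1318, 1310, 1288, 927,
    906, 986, 1332, 974, 1330, 1329, 17, 16, 1117, 1099, 750, 821, 1143, 1142, 10, 928, 600,
    666, 961, 6, 757, 796, 2125, 1912, 0, 1708, 1707, 1526, 1524, 1349, 1348, 1347, 1166,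
    1165, 989, 988, 827, 676, 92]

def alignW : List Nat :=
    [2, 26, 6, 47, 59, 113, 106, 137, 430, 59, 1014, 40, 272, 1564, 1941, 612, 1262, 945]

def bWit : List (List Nat) :=
    [[0, 1342, 92, 1518], [92], [0], []]

end Cfsg.Agent.ThreeTransp.M22Outer.Tables
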