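import Cfsg.Agent.Lib.ThreeTransp.M22Outer.Check
import Cfsg.Agent.Lib.ThreeTransp.M22Outer.CentData
import Cfsg.Agent.Lib.ThreeTransp.M22Eight.NineRuns

/-!
Kernel computations for the centralisers of the outer involutions of the presented group Fi22: the
fixed transpositions as reflections and transvections, and the alignment with the orthogonal subgroup
in dimension eight.
-/

set_option autoImplicit false
set_option linter.all false
set_option maxRecDepth 100000
set_option maxHeartbeats 4000000

noncomputable section

namespace Cfsg.Agent.ThreeTransp.M22Outer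

open Cfsg.Agent.CosetCert
open Cfsg.Agent.InvChar.Coset
open Cfsg.Agent.InvChar.Coset.FiOut (scan beqB memB posIn pt)
open Tables

/-- A bit. -/
def bitN (v i : ℕ) : ℕ := Nat.mod (Nat.shiftRight v i) 2

/-- The symplectic form on codes. -/
def sfN (u v : ℕ) : ℕ :=
  (bitN u 0 * bitN v 3 + bitN u 3 * bitN v 0 + (bitN u 1 * bitN v 4 + bitN u 4 * bitN v 1) +
    (bitN u 2 * bitN v 5 + bitN u 5 * bitN v 2)) % 2

/-- The quadratic form on codes. -/
def qN (v : ℕ) : ℕ :=
  (bitN v 0 * bitN v 2 + bitN v 1 * bitN v 3 + bitN v 4 + bitN v 4 * bitN v 5 + bitN v 5) % 2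

/-- Its polar form on codes. -/
def polN (u v : ℕ) : ℕ := (qN (Nat.xor u v) + qN u + qN v) % 2

/-- A transvection on codes. -/
def tvN (a b : ℕ) : ℕ := cond (Nat.beq (sfN b a) 1) (Nat.xor b a) b

/-- A reflection on codes. -/
def rflN (a b : ℕ) : ℕ := cond (Nat.beq (polN a b) 1) (Nat.xor b a) b

def code1 (x : ℕ) : ℕ := nthNat codeOne (posIn x fixedOne)

def code2 (x : ℕ) : ℕ := nthNat codeTwo (posIn x fixedTwo)

def mate2 (x : ℕ) : ℕ := nthNat mateTwo (posIn x fixedTwo)

theorem fixed_lists : beqList (sel (fixT 1) 3510) fixedOne = true ∧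
    beqList (sel (fixT 2) 3510) fixedTwo = true := by decide +kernel

theorem sp_ok : allB (fun x => Nat.blt (code1 x) 64 && allB (fun y =>
      memB (runW [x] y) fixedOne && Nat.beq (code1 (runW [x] y)) (tvN (code1 x) (code1 y))) fixedOne)
    fixedOne = true := by decide +kernel

theorem sp_all : scan (fun v => memB v codeOne) 64 = true ∧
    scan (fun v => anyB (fun x => Nat.beq (code1 x) v) fixedOne) 64 = true ∧
    memB 0 fixedOne = true ∧ code1 0 = 0 := by decide +kernel

theorem half_ok : allB (fun x =>
      allB (fun c => memB (runW [x] c) halfTwo) halfOne && allB (fun c => memB (runW [x] c) halfOne) halfTwo)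
    fixedOne = true := by decide +kernel

theorem half_disjoint : allB (fun c => !(memB c halfOne) && Nat.blt c 3510) halfTwo = true ∧
    allB (fun c => Nat.blt c 3510) halfOne = true ∧ memB 2578 halfOne = true := by decide +kernel

theorem orth_ok : allB (fun x => Nat.blt (code2 x) 64 && (Nat.beq (qN (code2 x)) 1 && allB (fun y =>
      memB (runW [x] y) fixedTwo && Nat.beq (code2 (runW [x] y)) (rflN (code2 x) (code2 y))) fixedTwo))
    fixedTwo = true := by decide +kernel

theorem orth_all :
    scan (fun v => Nat.beq (qN v) 0 || anyB (fun x => Nat.beq (code2 x) v) fixedTwo) 64 = true ∧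
    scan (fun v => anyB (fun x => anyB (fun y => Nat.beq (Nat.xor (code2 x) (code2 y)) v) fixedTwo) fixedTwo)
      64 = true := by decide +kernel

theorem orth_fibres : allB (fun x => allB (fun y =>
      !(Nat.beq (code2 x) (code2 y)) || (Nat.beq y x || Nat.beq y (mate2 x))) fixedTwo) fixedTwo = true := by
  decide +kernel

theorem mates_ok : allB (fun y => memB (mate2 y) fixedTwo &&
      (Nat.beq (mate2 (mate2 y)) y && !(Nat.beq (mate2 y) y))) fixedTwo = true := by decide +kernel

/-- The listed words for the last stabiliser of the third representative. -/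
def witW (j : ℕ) : List ℕ := bWit.getD j []

theorem wit_ok : scan (fun j => wordOK (fixT 2) (witW j) &&
      scan (fun k => Nat.beq (runW (witW j) (pt k)) (runW (stabW (nthNat bStab j)) (pt k))) 9) 4 = true ∧
    bStab.length = 4 := by decide +kernel

theorem stab_faithful : allB (fun i => Nat.beq i 0 ||
      anyB (fun y => !(Nat.beq (runW (stabW i) y) y)) fixedTwo) bStab = true ∧ stabW 0 = [] ∧
    scan (fun k => memB (base k) fixedTwo) 5 = true := by decide +kernel

/-- The alignment word carries the nine letters of the subgroup to fixed transpositions. -/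
theorem align_ok : wordOK (fun _ => true) alignW = true ∧
    scan (fun k => fixT 0 (runW alignW (M22Eight.np k))) 9 = true := by decide +kernel

end Cfsg.Agent.ThreeTransp.M22Outer
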