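import Cfsg.Agent.Lib.ThreeTransp.M22Outer.Stab

/-!
The orders of the fixed subgroups of the first and third representatives.
-/

set_option autoImplicit false
set_option linter.all false
set_option maxRecDepth 100000

noncomputable section

namespace Cfsg.Agent.ThreeTransp.M22Outer

open Cfsg.Agent.CosetCert
open Cfsg.Agent.InvChar.Coset Cfsg.Agent.InvChar.Coset.Fi22B Cfsg.Agent.InvChar.Coset.FiUnit
  Cfsg.Agent.InvChar.Coset.FiOut
open Tables

local notation "FG" => Cfsg.Agent.InvChar.Coset.FiUnit.FiG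

attribute [local irreducible] sel

/-- The fixed subgroup of a representative. -/
def Cfix (r : ℕ) : Subgroup FG := MonoidHom.eqLocus (rep r).toMonoidHom (MonoidHom.id FG)

theorem mem_Cfix {r : ℕ} {g : FG} : g ∈ Cfix r ↔ rep r g = g := Iff.rfl

theorem dd_mem_Cfix {r : ℕ} (hr : r < 3) {x : ℕ} (hx : x < 3510) (h : fixT r x = true) :
    dd (toPt x) ∈ Cfix r := (rep_fix_iff hr (toPt x)).2 (by rwa [toPt_val hx])

theorem pw_mem_Cfix {r : ℕ} (hr : r < 3) {w : List ℕ} (h : wordOK (fixT r) w = true) :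
    pw w ∈ Cfix r := by
  obtain ⟨hs, hf⟩ := small_of_wordOK h
  clear h
  induction w with
  | nil => exact one_mem _
  | cons x w ih =>
    exact mul_mem (ih (fun y hy => hs y (List.mem_cons_of_mem _ hy))
      fun y hy => hf y (List.mem_cons_of_mem _ hy))
      (dd_mem_Cfix hr (hs x List.mem_cons_self) (hf x List.mem_cons_self))

theorem Cfix_fixT {r : ℕ} (hr : r < 3) {g : FG} (hg : g ∈ Cfix r) {x : Fin table.n}
    (hx : fixT r x = true) : fixT r (φ g x) = true := by
  rw [← rep_fix_iff hr, ← conj_dd, map_mul, map_mul, map_inv, mem_Cfix.1 hg,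
    (rep_fix_iff hr x).2 hx]

/-- The elements of the fixed subgroup fixing the first base points. -/
def Hk (r k : ℕ) : Subgroup FG where
  carrier := {g | g ∈ Cfix r ∧ ∀ j < k, φ g (bp j) = bp j}
  one_mem' := ⟨one_mem _, fun j _ => by rw [map_one]; rfl⟩
  mul_mem' ha hb := ⟨mul_mem ha.1 hb.1, fun j hj => by
    rw [map_mul, Equiv.Perm.mul_apply, hb.2 j hj, ha.2 j hj]⟩
  inv_mem' ha := ⟨inv_mem ha.1, fun j hj => by
    rw [map_inv, Equiv.Perm.inv_eq_iff_eq, ha.2 j hj]⟩

theorem Hk_zero (r : ℕ) : Hk r 0 = Cfix r :=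
  le_antisymm (fun g hg => hg.1) fun g hg => ⟨hg, fun j hj => absurd hj (Nat.not_lt_zero j)⟩

/-- The points allowed as images of a base point. -/
theorem raw_map {r k : ℕ} (hr : r < 3) (hk : k < 5) {g : FG} (hg : g ∈ Hk r k) {x : ℕ}
    (hx : x ∈ sel (fun x => fixT r x && patB k x k) 3510) :
    (φ g (toPt x) : ℕ) ∈ sel (fun x => fixT r x && patB k x k) 3510 := by
  obtain ⟨hxlt, hxP⟩ := mem_sel.1 hx
  rw [Bool.and_eq_true] at hxP
  refine mem_sel.2 ⟨lt_n _, ?_⟩
  rw [Bool.and_eq_true]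
  refine ⟨Cfix_fixT hr hg.1 (by rw [toPt_val hxlt]; exact hxP.1), patB_iff.2 fun j hj => ?_⟩
  obtain ⟨hne, hm⟩ := patB_iff.1 hxP.2 j hj
  refine ⟨fun e => hne ?_, ?_⟩
  · have : φ g (toPt x) = φ g (bp j) := by
      rw [hg.2 j hj]; exact Fin.ext (e.trans (bp_val (by omega)).symm)
    rw [← toPt_val hxlt, (φ g).injective this, bp_val (by omega)]
  · have := meets_conj g (bp j) (toPt x)
    rw [hg.2 j hj, bp_val (by omega), toPt_val hxlt] at this
    exact this.trans hm

theorem refine_map {flag : Bool} {raw : List ℕ} {f : ℕ → ℕ} (hf : ∀ x ∈ raw, f x ∈ raw)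
    (hm : ∀ x ∈ raw, ∀ y ∈ raw, meets (f x) (f y) = meets x y) {x : ℕ}
    (hx : x ∈ refine' flag raw) : f x ∈ refine' flag raw := by
  cases flag
  · exact hf x hx
  · simp only [refine', cond_true, List.mem_filter, anyB_iff] at hx ⊢
    obtain ⟨hx, y, hy, hxy⟩ := hx
    exact ⟨hf x hx, f y, hf y hy, by rw [hm x hx y hy]; exact hxy⟩

theorem card_points {l : List ℕ} (hn : l.Nodup) (hl : ∀ x ∈ l, x < 3510) :
    Nat.card {x : Fin table.n // (x : ℕ) ∈ l} = l.length := by
  classical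
  rw [Nat.card_congr (β := ↥l.toFinset)
    { toFun := fun x => ⟨(x.1 : ℕ), List.mem_toFinset.2 x.2⟩
      invFun := fun y => ⟨toPt y.1, by
        rw [toPt_val (hl _ (List.mem_toFinset.1 y.2))]; exact List.mem_toFinset.1 y.2⟩
      left_inv := fun x => Subtype.ext (toPt_self x.1)
      right_inv := fun y => Subtype.ext (toPt_val (hl _ (List.mem_toFinset.1 y.2))) },
    Nat.card_eq_fintype_card, Fintype.card_coe, List.toFinset_card_of_nodup hn]

theorem img_keys {r k : ℕ} (hr : r < 3) (hk : k < 5) {flag : Bool} {raw keys : List ℕ}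
    {ws : List (List ℕ)} (h : stepOK r k flag raw keys ws = true) {g : FG} (hg : g ∈ Hk r k) :
    (φ g (bp k) : ℕ) ∈ keys := by
  simp only [stepOK, Bool.and_eq_true] at h
  obtain ⟨h1, h2, h3, h4⟩ := h
  have e1 := CosetCert.beqList_iff h1
  have e2 := CosetCert.beqList_iff h2
  have hraw : ∀ x ∈ raw, x < 3510 := fun x hx => by rw [← e1] at hx; exact (mem_sel.1 hx).1
  have hmap : ∀ g ∈ Hk r k, ∀ x ∈ raw, (φ g (toPt x) : ℕ) ∈ raw := fun g hg x hx => by
    rw [← e1] at hx ⊢
    exact raw_map hr hk hg hx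
  clear e1 h1
  have hbase : base k ∈ keys := memB_iff.1 h3
  have := refine_map (flag := flag) (f := fun x => (φ g (toPt x) : ℕ)) (hmap g hg)
    (fun x hx y hy => by
      have := meets_conj g (toPt x) (toPt y)
      rwa [toPt_val (hraw x hx), toPt_val (hraw y hy)] at this) (e2.symm ▸ hbase)
  rw [e2] at this
  exact this

theorem exists_move {r k : ℕ} (hr : r < 3) (hk : k < 5) {flag : Bool} {raw keys : List ℕ}
    {ws : List (List ℕ)} (h : stepOK r k flag raw keys ws = true) {g : FG} (hg : g ∈ Hk r k) :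
    ∃ w, wordOK (fixT r) w = true ∧ pw w ∈ Hk r k ∧ φ (pw w) (bp k) = φ g (bp k) := by
  have hk' := img_keys hr hk h hg
  simp only [stepOK, Bool.and_eq_true] at h
  obtain ⟨w, hw, hwx, hwf⟩ := movesOK_spec h.2.2.2 _ hk'
  obtain ⟨e1, e2⟩ := elem_of_word hk hw hwx hwf
  exact ⟨w, hw, ⟨pw_mem_Cfix hr hw, e2⟩, e1⟩

theorem card_step {r k : ℕ} (hr : r < 3) (hk : k < 5) {flag : Bool} {raw keys : List ℕ}
    {ws : List (List ℕ)} (h : stepOK r k flag raw keys ws = true) :
    Nat.card (Hk r k) = keys.length * Nat.card (Hk r (k + 1)) := by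
  have himg : ∀ g ∈ Hk r k, (φ g (bp k) : ℕ) ∈ keys := fun g hg => img_keys hr hk h hg
  simp only [stepOK, Bool.and_eq_true] at h
  obtain ⟨h1, h2, h3, h4⟩ := h
  have e1 := CosetCert.beqList_iff h1
  have e2 := CosetCert.beqList_iff h2
  have hraw : ∀ x ∈ raw, x < 3510 := fun x hx => by rw [← e1] at hx; exact (mem_sel.1 hx).1
  have hnodup : raw.Nodup := by rw [← e1]; exact sel_nodup _ _
  clear e1 h1
  have hsub : List.Sublist keys raw := by
    rw [← e2]; cases flag
    · exact List.Sublist.refl _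
    · exact List.filter_sublist
  have hlt : ∀ x ∈ keys, x < 3510 := fun x hx => hraw x (hsub.subset hx)
  have ht : ∀ x : {x : Fin table.n // (x : ℕ) ∈ keys}, ∃ t ∈ Hk r k, φ t (bp k) = x.1 := fun x => by
    obtain ⟨w, hw, hwx, hwf⟩ := movesOK_spec h4 _ x.2
    obtain ⟨e1, e2⟩ := elem_of_word hk hw hwx hwf
    exact ⟨pw w, ⟨pw_mem_Cfix hr hw, e2⟩, e1⟩
  choose t ht ht' using ht
  rw [← card_points (hnodup.sublist hsub) hlt, ← Nat.card_prod]
  refine (Nat.card_congr (Equiv.ofBijective (fun p : {x : Fin table.n // (x : ℕ) ∈ keys} × Hk r (k + 1) =>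
    (⟨t p.1 * p.2.1, mul_mem (ht _) ⟨p.2.2.1, fun j hj => p.2.2.2 j (Nat.lt_succ_of_lt hj)⟩⟩ : Hk r k))
    ⟨?_, ?_⟩)).symm
  · rintro ⟨x, s, hs⟩ ⟨y, u, hu⟩ e
    have e1 : t x * s = t y * u := congrArg Subtype.val e
    have e2 : ∀ z (v : FG), v ∈ Hk r (k + 1) → φ (t z * v) (bp k) = z.1 := fun z v hv => by
      rw [map_mul, Equiv.Perm.mul_apply, hv.2 k (Nat.lt_succ_self _), ht']
    obtain rfl : x = y := Subtype.ext (by rw [← e2 x s hs, e1, e2 y u hu])
    obtain rfl : s = u := mul_left_cancel e1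
    rfl
  · rintro ⟨g, hg⟩
    let x : {x : Fin table.n // (x : ℕ) ∈ keys} := ⟨φ g (bp k), himg g hg⟩
    refine ⟨(x, ⟨(t x)⁻¹ * g, mul_mem (inv_mem (ht x).1) hg.1, fun j hj => ?_⟩),
      Subtype.ext (mul_inv_cancel_left _ _)⟩
    rw [map_mul, Equiv.Perm.mul_apply, map_inv, Equiv.Perm.inv_eq_iff_eq]
    rcases Nat.lt_succ_iff_lt_or_eq.1 hj with e | rfl
    exacts [by rw [hg.2 j e, (ht x).2 j e], (ht' x).symm]

theorem card_steps {r : ℕ} (hr : r < 3) : ∀ {fs : List Bool} {as bs : List (List ℕ)}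
    {cs : List (List (List ℕ))} {k : ℕ}, stepsOK r k fs as bs cs = true → k + bs.length = 5 →
    Nat.card (Hk r k) = (bs.map List.length).prod * Nat.card (Hk r 5)
  | [], [], [], [], k, _, hk => by
    obtain rfl : k = 5 := by simpa using hk
    simp
  | f :: fs, a :: as, b :: bs, c :: cs, k, h, hk => by
    simp only [stepsOK, Bool.and_eq_true] at h
    simp only [List.length_cons] at hk
    rw [card_step hr (by omega) h.1, card_steps hr h.2 (by omega), List.map_cons, List.prod_cons,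
      mul_assoc]
  | [], _ :: _, _, _, _, h, _ => by simp [stepsOK] at h
  | [], [], _ :: _, _, _, h, _ => by simp [stepsOK] at h
  | [], [], [], _ :: _, _, h, _ => by simp [stepsOK] at h
  | _ :: _, [], _, _, _, h, _ => by simp [stepsOK] at h
  | _ :: _, _ :: _, [], _, _, h, _ => by simp [stepsOK] at h
  | _ :: _, _ :: _, _ :: _, [], _, h, _ => by simp [stepsOK] at h

theorem commT_iff {r i : ℕ} (hr : r < 3) (hi : i < 36) :
    pw (stabW i) ∈ Cfix r ↔ commT r i = true := by
  set g := pw (stabW i)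
  have hs := (stabW_spec hi).1
  have hone : ∀ k : Fin 9, ∃ e : Fin table.n, rep r (dd (cp k)) = dd e ∧
      ((rep r g * dd e * (rep r g)⁻¹ = g * dd e * g⁻¹) ↔
      runW (stabW i) (tau r (pt k)) = tau r (runW (stabW i) (pt k))) := fun k => by
    obtain ⟨e, he, hv⟩ := rep_dd hr (cp k)
    obtain ⟨f, hf, hw⟩ := rep_dd hr (φ g (cp k))
    refine ⟨e, he, ?_⟩
    rw [← he, ← map_inv, ← map_mul, ← map_mul, conj_dd, hf, he, conj_dd, dd_injective.eq_iff, Fin.ext_iff,
      hw, phi_pw hs, phi_pw hs, hv]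
    exact eq_comm
  constructor
  · intro h
    have : ∀ m ≤ 9, scan (fun k => Nat.beq (runW (stabW i) (tau r (pt k)))
        (tau r (runW (stabW i) (pt k)))) m = true := by
      intro m
      induction m with
      | zero => exact fun _ => rfl
      | succ m ih =>
        intro hm
        simp only [FiOut.scan, Bool.and_eq_true, Nat.beq_eq]
        obtain ⟨e, -, h2⟩ := hone ⟨m, by omega⟩
        exact ⟨h2.1 (by rw [mem_Cfix.1 h]), ih (by omega)⟩
    exact this 9 le_rfl
  · intro h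
    refine mul_inv_eq_one.1 ?_
    have hc : MulAut.conj (rep r g) * rep r = MulAut.conj g * rep r := aut_eq fun k => by
      obtain ⟨e, he, h2⟩ := hone k
      rw [MulAut.mul_apply, MulAut.mul_apply, he, MulAut.conj_apply, MulAut.conj_apply]
      exact h2.2 (Nat.eq_of_beq_eq_true (scan_spec _ h k k.2))
    have hc' := mul_right_cancel hc
    refine eq_one_of_fix fun k => dd_injective ?_
    have := DFunLike.congr_fun hc' ((g)⁻¹ * dd (cp k) * g)
    simp only [MulAut.conj_apply] at this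
    rw [← conj_dd, mul_inv_rev, inv_inv]
    calc rep r g * g⁻¹ * dd (cp k) * (g * (rep r g)⁻¹)
        = rep r g * (g⁻¹ * dd (cp k) * g) * (rep r g)⁻¹ := by group
      _ = _ := by rw [this]; group

theorem distinctB_pairwise : ∀ {l : List (List ℕ)}, distinctB l = true → l.Pairwise (· ≠ ·)
  | [], _ => List.Pairwise.nil
  | q :: l, h => by
    simp only [distinctB, Bool.and_eq_true, List.all_eq_true, Bool.not_eq_true'] at h
    refine List.pairwise_cons.2 ⟨fun r hr e => ?_, distinctB_pairwise h.2⟩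
    have hb : ∀ x : List ℕ, beqList x x = true := fun x => by
      induction x with
      | nil => rfl
      | cons a t ih =>
        show (Nat.beq a a && beqList t t) = true
        rw [ih, Bool.and_true, Nat.beq_eq]
    have := h.1 r hr
    rw [← e, hb] at this
    exact Bool.noConfusion this

theorem stabW_inj {i j : ℕ} (hi : i < 36) (hj : j < 36) (h : pw (stabW i) = pw (stabW j)) : i = j := by
  by_contra hne
  have hp := distinctB_pairwise stab_distinct
  rw [List.pairwise_map] at hp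
  have hsym : Std.Symm (fun a b => orderL.map (runW (stabW a)) ≠ orderL.map (runW (stabW b))) :=
    ⟨fun a b e => e.symm⟩
  refine hp.forall (mem_sel.2 ⟨hi, rfl⟩) (mem_sel.2 ⟨hj, rfl⟩) hne ?_
  refine List.map_inj_left.2 fun x hx => ?_
  have hx' := order_facts.2.2.1 x hx
  have e := congrArg Fin.val (congrArg (fun g => φ g (toPt x)) h)
  rwa [phi_pw (stabW_spec hi).1, phi_pw (stabW_spec hj).1, toPt_val hx'] at e

theorem card_last {r : ℕ} (hr : r < 3) {l : List ℕ} (hl : sel (commT r) 36 = l) :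
    Nat.card (Hk r 5) = l.length := by
  classical
  subst hl
  rw [← List.toFinset_card_of_nodup (sel_nodup (commT r) 36), ← Fintype.card_coe,
    ← Nat.card_eq_fintype_card]
  refine (Nat.card_congr (Equiv.ofBijective (fun i : ↥(sel (commT r) 36).toFinset =>
    (⟨pw (stabW i.1), (commT_iff hr (mem_sel.1 (List.mem_toFinset.1 i.2)).1).2
      (mem_sel.1 (List.mem_toFinset.1 i.2)).2,
      (stabW_spec (mem_sel.1 (List.mem_toFinset.1 i.2)).1).2⟩ : Hk r 5)) ⟨?_, ?_⟩)).symm
  · rintro ⟨i, hi⟩ ⟨j, hj⟩ e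
    exact Subtype.ext (stabW_inj (mem_sel.1 (List.mem_toFinset.1 hi)).1
      (mem_sel.1 (List.mem_toFinset.1 hj)).1 (congrArg Subtype.val e))
  · rintro ⟨g, hg⟩
    obtain ⟨i, hi, rfl⟩ := stab_elem hg.2
    exact ⟨⟨i, List.mem_toFinset.2 (mem_sel.2 ⟨hi, (commT_iff hr hi).1 hg.1⟩)⟩, rfl⟩

/-- The orders. -/
theorem card_Cfix : Nat.card (Cfix 0) = 1045094400 ∧ Nat.card (Cfix 2) = 3317760 := by
  obtain ⟨l1, l2, l3, l4⟩ := chain_lengths
  have n1 : sKeys.length = 5 := by rw [← List.length_map (f := List.length), l1]; rfl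
  have n3 : bKeys.length = 5 := by rw [← List.length_map (f := List.length), l3]; rfl
  have h0 := card_steps (r := 0) (by norm_num) chain_s.1 (by omega)
  have h2 := card_steps (r := 2) (by norm_num) chain_b.1 (by omega)
  rw [Hk_zero, l1, card_last (by norm_num) chain_s.2, l2] at h0
  rw [Hk_zero, l3, card_last (by norm_num) chain_b.2, l4] at h2
  exact ⟨h0.trans (by norm_num), h2.trans (by norm_num)⟩

end Cfsg.Agent.ThreeTransp.M22Outer
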