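import Cfsg.Agent.InvChar.Coset.FiOutCheck
import Cfsg.Agent.Lib.ThreeTransp.M22Outer.Data

/-!
Kernel computations on the 3510 transpositions of the presented group Fi22: transitivity on a base of
five, the stabiliser of the base, the outer involutions fixing it, and their centralisers.
-/

set_option autoImplicit false
set_option linter.all false
set_option maxRecDepth 100000
set_option maxHeartbeats 4000000
set_option Elab.async false

noncomputable section

namespace Cfsg.Agent.ThreeTransp.M22Outer

open Cfsg.Agent.CosetCert
open Cfsg.Agent.InvChar.Coset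
open Cfsg.Agent.InvChar.Coset.FiOut (scan countB beqB memB dword meets pt other)
open Tables

/-- The numbers below a bound passing a test, largest first. -/
def sel (f : ℕ → Bool) : ℕ → List ℕ
  | 0 => []
  | n + 1 => cond (f n) (n :: sel f n) (sel f n)

/-- The image of a point under a product of transpositions, the first one acting first. -/
def runW : List ℕ → ℕ → ℕ
  | [], c => c
  | x :: w, c => runW w (Fi22B.table.run (dword x) c)

/-- The outer automorphism on points. -/
def σ (c : ℕ) : ℕ := Nat.land (Nat.shiftRight sPerm (Nat.mul 20 c)) 1048575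

def base (k : ℕ) : ℕ := nthNat baseL k

def allB (f : ℕ → Bool) : List ℕ → Bool
  | [] => true
  | x :: l => f x && allB f l

def anyB (f : ℕ → Bool) : List ℕ → Bool
  | [] => false
  | x :: l => f x || anyB f l

/-- A point looks like the `m`th base point towards the first `k` base points. -/
def patB (m x : ℕ) : ℕ → Bool
  | 0 => true
  | j + 1 => !(Nat.beq x (base j)) && (beqB (meets (base j) x) (meets (base j) (base m)) && patB m x j)

def fixBase (w : List ℕ) : ℕ → Bool
  | 0 => true
  | j + 1 => Nat.beq (runW w (base j)) (base j) && fixBase w j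

def wordOK (P : ℕ → Bool) (w : List ℕ) : Bool := allB (fun y => Nat.blt y 3510 && P y) w

/-- The words move the base point to the listed points and fix the earlier ones. -/
def movesOK (P : ℕ → Bool) (k : ℕ) : List ℕ → List (List ℕ) → Bool
  | [], [] => true
  | x :: l, w :: m => wordOK P w && (Nat.beq (runW w (base k)) x && (fixBase w k && movesOK P k l m))
  | _, _ => false

def σGen (c : ℕ) : ℕ → Bool
  | 0 => true
  | l + 1 => Nat.beq (σ (Fi22B.table.tgt c l)) (Fi22B.table.run (dword (other l)) (σ c)) && σGen c l

def σOne (c : ℕ) : Bool := Nat.blt (σ c) 3510 && (Nat.beq (σ (σ c)) c && σGen c 9)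

theorem sigma_ok : scan σOne 3510 = true ∧ σ 0 = 0 := by decide +kernel

theorem base_ok : scan (fun k => Nat.blt (base k) 3510 && Nat.beq (σ (base k)) (base k)) 5 = true ∧
    base 0 = 0 := by decide +kernel

def movesAt (k : ℕ) (keys : List ℕ) (ws : List (List ℕ)) : Bool :=
  beqList (sel (fun x => patB k x k) 3510) keys && movesOK (fun _ => true) k keys ws

theorem moves1 : movesAt 1 moveKeys1 moveWords1 = true := by decide +kernel
theorem moves2 : movesAt 2 moveKeys2 moveWords2 = true := by decide +kernel
theorem moves3 : movesAt 3 moveKeys3 moveWords3 = true := by decide +kernel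
theorem moves4 : movesAt 4 moveKeys4 moveWords4 = true := by decide +kernel

/-! The stabiliser of the base. -/

def order (k : ℕ) : ℕ := nthNat orderL k

def fullB (y x : ℕ) : ℕ → Bool
  | 0 => true
  | j + 1 => !(Nat.beq x (base j)) && (beqB (meets (base j) x) (meets (base j) y) && fullB y x j)

def candOK : ℕ → List (List ℕ) → Bool
  | _, [] => true
  | k, l :: r => beqList (sel (fun x => fullB (order k) x 5) 3510) l && candOK (k + 1) r

theorem cands_ok : candOK 0 candL = true ∧ candL.length = 7 := by decide +kernel

/-- A new image is compatible with the images of the earlier points. -/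
def compat (z o : ℕ) : List ℕ → List ℕ → Bool
  | q :: qs, p :: ps => !(Nat.beq z q) && (beqB (meets q z) (meets p o) && compat z o qs ps)
  | _, _ => true

/-- All compatible images of the extra points. -/
def tailsFrom : List ℕ → List (List ℕ) → List ℕ → List ℕ → List (List ℕ)
  | o :: os, l :: ls, qs, ps =>
      (l.filter fun z => compat z o qs ps).flatMap fun z =>
        (tailsFrom os ls (qs ++ [z]) (ps ++ [o])).map fun t => z :: t
  | _, _, _, _ => [[]]

def tailsL : List (List ℕ) := tailsFrom orderL candL [] []

def stabW (i : ℕ) : List ℕ := stabWords.getD i []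

/-- The image of a point under a stabiliser element followed, for odd codes, by `σ`. -/
def coded (c x : ℕ) : ℕ :=
  cond (Nat.beq (Nat.mod c 2) 0) (runW (stabW (Nat.div c 2)) x) (σ (runW (stabW (Nat.div c 2)) x))

def tailsOK : List (List ℕ) → List ℕ → Bool
  | [], [] => true
  | q :: r, c :: m => Nat.blt c 72 && (beqList (orderL.map (coded c)) q && tailsOK r m)
  | _, _ => false

theorem tails_ok : tailsOK tailsL witness = true := by decide +kernel

theorem stab_ok : scan (fun i => wordOK (fun _ => true) (stabW i) && fixBase (stabW i) 5) 36 = true := by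
  decide +kernel

def distinctB : List (List ℕ) → Bool
  | [] => true
  | q :: l => l.all (fun r => !(beqList q r)) && distinctB l

theorem stab_distinct : distinctB ((sel (fun _ => true) 36).map fun i => orderL.map (runW (stabW i))) = true := by
  decide +kernel

/-- The points generating the group are among the listed ones. -/
theorem gens_listed : scan (fun k => memB (pt k) baseL || memB (pt k) orderL) 9 = true := by
  decide +kernel

/-! The outer involutions fixing the base. -/

def repW (r : ℕ) : List ℕ := repWords.getD r []

/-- The representative `r` on points. -/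
def tau (r x : ℕ) : ℕ := σ (runW (repW r) x)

def autoI (i x : ℕ) : ℕ := σ (runW (stabW i) x)

def clsW (i : ℕ) : List ℕ := clsWord.getD i []

def clsOne (i : ℕ) : Bool :=
  cond (Nat.beq (nthNat clsRep i) 3)
    (Nat.blt (nthNat clsPoint i) 3510 &&
      !(Nat.beq (autoI i (autoI i (nthNat clsPoint i))) (nthNat clsPoint i)))
    (Nat.blt (nthNat clsRep i) 3 && (wordOK (fun _ => true) (clsW i) && scan (fun k =>
      Nat.beq (runW (clsW i) (autoI i (runW (clsW i).reverse (pt k)))) (tau (nthNat clsRep i) (pt k))) 9))

theorem cls_ok : scan clsOne 36 = true := by decide +kernel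

theorem reps_ok : scan (fun r => wordOK (fun y => Nat.beq (σ y) y) (repW r) &&
    scan (fun k => Nat.beq (tau r (tau r (pt k))) (pt k)) 9) 3 = true ∧
    repW 0 = [] ∧ repW 1 = [0] ∧ repW 2 = [0, 92] ∧ meets 0 92 = true ∧ σ 92 = 92 := by
  decide +kernel

theorem fixed_counts : countB (fun x => Nat.beq (tau 0 x) x) 3510 = 360 ∧
    countB (fun x => Nat.beq (tau 1 x) x) 3510 = 64 ∧
    countB (fun x => Nat.beq (tau 2 x) x) 3510 = 72 := by decide +kernel

/-! The centralisers. -/

def fixT (r x : ℕ) : Bool := Nat.beq (tau r x) x

/-- The images allowed for the next base point, possibly refined by a non-commuting companion. -/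
def refine' (flag : Bool) (raw : List ℕ) : List ℕ :=
  cond flag (raw.filter fun x => anyB (fun y => !(meets x y)) raw) raw

def stepOK (r k : ℕ) (flag : Bool) (raw keys : List ℕ) (ws : List (List ℕ)) : Bool :=
  beqList (sel (fun x => fixT r x && patB k x k) 3510) raw &&
    (beqList (refine' flag raw) keys && (memB (base k) keys && movesOK (fixT r) k keys ws))

def stepsOK (r : ℕ) : ℕ → List Bool → List (List ℕ) → List (List ℕ) → List (List (List ℕ)) → Bool
  | k, f :: fs, a :: as, b :: bs, c :: cs => stepOK r k f a b c && stepsOK r (k + 1) fs as bs cs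
  | _, [], [], [], [] => true
  | _, _, _, _, _ => false

def commT (r i : ℕ) : Bool :=
  scan (fun k => Nat.beq (runW (stabW i) (tau r (pt k))) (tau r (runW (stabW i) (pt k)))) 9

theorem chain_s : stepsOK 0 0 sFlags sRaw sKeys sWords = true ∧ sel (commT 0) 36 = sStab := by
  decide +kernel

theorem chain_b : stepsOK 2 0 bFlags bRaw bKeys bWords = true ∧ sel (commT 2) 36 = bStab := by
  decide +kernel

theorem chain_lengths : sKeys.map List.length = [360, 63, 32, 15, 8] ∧ sStab.length = 12 ∧
    bKeys.map List.length = [72, 30, 16, 6, 4] ∧ bStab.length = 4 := by decide +kernel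

/-- The first base point is the only point fixed by the second representative commuting with all others. -/
theorem isolated : allB (fun x => Nat.beq x 0 || anyB (fun y => !(meets x y)) (sel (fixT 1) 3510))
      (sel (fixT 1) 3510) = true ∧ allB (fun y => meets 0 y) (sel (fixT 1) 3510) = true ∧
    memB 0 (sel (fixT 1) 3510) = true := by
  decide +kernel

end Cfsg.Agent.ThreeTransp.M22Outer
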