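import Cfsg.Agent.Lib.ThreeTransp.M22Iso.Vec

/-!
An involutive semilinear isometry of the six-dimensional unitary space over the field with four
elements fixes two orthogonal hyperbolic pairs of isotropic vectors.
-/

set_option autoImplicit false
set_option linter.unusedSectionVars false

namespace Cfsg.Agent.ThreeTransp.M22Outer

open Cfsg.Agent.Classical.Unitary
open Cfsg.Agent.Forms
open Cfsg.Agent.InvChar.Coset (FF)
open Cfsg.Agent.ThreeTransp
open Cfsg.Agent.ThreeTransp.M22Iso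

local notation "H" => Cfsg.hermForm 6 FF 2

theorem ff_01 : ∀ x : FF, x ^ 2 = x → x = 0 ∨ x = 1 := by decide

theorem ff_w : (FF.w : FF) ^ 2 + FF.w = 1 ∧ (FF.w : FF) ≠ 0 := by decide

/-- A semilinear isometry of order two. -/
structure Invol where
  S : Vec → Vec
  add : ∀ u v, S (u + v) = S u + S v
  smul : ∀ (c : FF) v, S (c • v) = c ^ 2 • S v
  form : ∀ u v, H (S u) (S v) = H u v ^ 2
  sq : ∀ v, S (S v) = v

namespace Invol

variable (I : Invol)

/-- Fixed vectors orthogonal to the given ones. -/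
def In (l : List Vec) (v : Vec) : Prop := I.S v = v ∧ ∀ u ∈ l, H v u = 0

theorem H_fix {u v : Vec} (hu : I.S u = u) (hv : I.S v = v) : H u v = 0 ∨ H u v = 1 := by
  refine ff_01 _ ?_
  conv_rhs => rw [← hu, ← hv]
  rw [I.form]

theorem H_symm {u v : Vec} (hu : I.S u = u) (hv : I.S v = v) : H v u = H u v := by
  rw [← H_conj4 u v]
  rcases I.H_fix hu hv with h | h <;> rw [h] <;> simp

theorem In.add {l : List Vec} {u v : Vec} (hu : I.In l u) (hv : I.In l v) : I.In l (u + v) :=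
  ⟨by rw [I.add, hu.1, hv.1], fun x hx => by rw [H_add_left, hu.2 x hx, hv.2 x hx, add_zero]⟩

theorem S_zero : I.S 0 = 0 := by
  have := I.smul 0 0
  rwa [zero_smul, show (0 : FF) ^ 2 = 0 by decide, zero_smul] at this

/-- The fixed part of a vector. -/
def fix (v : Vec) : Vec := v + I.S v

theorem fix_fixed (v : Vec) : I.S (I.fix v) = I.fix v := by
  rw [fix, I.add, I.sq, add_comm]

theorem fix_span (v : Vec) : (FF.w : FF) ^ 2 • I.fix v + I.fix ((FF.w : FF) • v) = v := by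
  funext i
  simp only [fix, I.smul, Pi.add_apply, Pi.smul_apply, smul_eq_mul]
  linear_combination v i * ff_w.1 + add_self ((FF.w : FF) ^ 2 * I.S v i)

theorem fix_perp {u v : Vec} (hu : I.S u = u) (h : H v u = 0) : H (I.fix v) u = 0 := by
  rw [fix, H_add_left, h, zero_add]
  conv_lhs => rw [← hu]
  rw [I.form, h]
  decide

/-- At most five fixed vectors have a common fixed vector orthogonal to all. -/
theorem exists_In {l : List Vec} (hl : l.length < 6) (hfix : ∀ u ∈ l, I.S u = u) :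
    ∃ v, v ≠ 0 ∧ I.In l v := by
  let f : Vec →ₗ[FF] (Fin l.length → FF) :=
    { toFun := fun v i => H v (l.get i)
      map_add' := fun x y => funext fun i => H_add_left ..
      map_smul' := fun c x => funext fun i => by
        simp only [RingHom.id_apply, Pi.smul_apply, smul_eq_mul]
        rw [H_smul_left] }
  have hne : LinearMap.ker f ≠ ⊥ := LinearMap.ker_ne_bot_of_finrank_lt (by simpa using hl)
  obtain ⟨v, hv, hv0⟩ := (Submodule.ne_bot_iff _).1 hne
  have hperp : ∀ u ∈ l, H v u = 0 := fun u hu => by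
    obtain ⟨i, rfl⟩ := List.get_of_mem hu
    exact congrFun (LinearMap.mem_ker.1 hv) i
  have hw : ∀ u ∈ l, H ((FF.w : FF) • v) u = 0 := fun u hu => by
    rw [H_smul_left, hperp u hu, mul_zero]
  by_cases h : I.fix v = 0
  · refine ⟨I.fix ((FF.w : FF) • v), fun h' => hv0 ?_, I.fix_fixed _,
      fun u hu => I.fix_perp (hfix u hu) (hw u hu)⟩
    rw [← I.fix_span v, h, h', smul_zero, add_zero]
  · exact ⟨_, h, I.fix_fixed _, fun u hu => I.fix_perp (hfix u hu) (hperp u hu)⟩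

/-- The fixed vectors orthogonal to `l` form a non-degenerate space. -/
def Nd (l : List Vec) : Prop :=
  (∀ u ∈ l, I.S u = u) ∧ ∀ u, I.In l u → u ≠ 0 → ∃ v, I.In l v ∧ H u v = 1

theorem nd_nil : I.Nd [] := by
  refine ⟨by simp, fun u hu hu0 => ?_⟩
  obtain ⟨x, hx⟩ : ∃ x, H u x ≠ 0 := by
    obtain ⟨i, hi⟩ : ∃ i, u i ≠ 0 := by
      by_contra! h; exact hu0 (funext h)
    refine ⟨Pi.single i 1, ?_⟩
    have : H u (Pi.single i (1 : FF)) = u i := by
      simp [Cfsg.hermForm, Pi.single_apply]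
    rwa [this]
  by_contra! h
  refine hx ?_
  have h0 : ∀ v, I.S v = v → H u v = 0 := fun v hv =>
    (I.H_fix hu.1 hv).resolve_right (h v ⟨hv, by simp⟩)
  rw [← I.fix_span x, H_add_right4, H_smul_right, h0 _ (I.fix_fixed _), h0 _ (I.fix_fixed _),
    mul_zero, add_zero]

theorem nd_cons {l : List Vec} (h : I.Nd l) {e : Vec} (he : I.In l e) (he1 : H e e = 1) :
    I.Nd (e :: l) := by
  refine ⟨fun u hu => by
    rcases List.mem_cons.1 hu with rfl | hu
    exacts [he.1, h.1 u hu], fun u hu hu0 => ?_⟩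
  have hul : I.In l u := ⟨hu.1, fun x hx => hu.2 x (List.mem_cons_of_mem _ hx)⟩
  obtain ⟨v, hv, huv⟩ := h.2 u hul hu0
  have hue : H u e = 0 := hu.2 e List.mem_cons_self
  rcases I.H_fix hv.1 he.1 with hve | hve
  · refine ⟨v, ⟨hv.1, fun x hx => ?_⟩, huv⟩
    rcases List.mem_cons.1 hx with rfl | hx
    exacts [hve, hv.2 x hx]
  · refine ⟨v + e, ⟨(In.add I hv he).1, fun x hx => ?_⟩, by rw [H_add_right4, huv, hue, add_zero]⟩
    rcases List.mem_cons.1 hx with rfl | hx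
    · rw [H_add_left, hve, he1]; exact add_self _
    · exact (In.add I hv he).2 x hx

theorem nd_pair {l : List Vec} (h : I.Nd l) {p q : Vec} (hp : I.In l p) (hq : I.In l q)
    (hpp : H p p = 0) (hqq : H q q = 0) (hpq : H p q = 1) : I.Nd (p :: q :: l) := by
  refine ⟨fun u hu => by
    rcases List.mem_cons.1 hu with rfl | hu
    · exact hp.1
    rcases List.mem_cons.1 hu with rfl | hu
    exacts [hq.1, h.1 u hu], fun u hu hu0 => ?_⟩
  have hup : H u p = 0 := hu.2 p List.mem_cons_self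
  have huq : H u q = 0 := hu.2 q (List.mem_cons_of_mem _ List.mem_cons_self)
  have hul : I.In l u := ⟨hu.1, fun x hx => hu.2 x (List.mem_cons_of_mem _ (List.mem_cons_of_mem _ hx))⟩
  obtain ⟨v, hv, huv⟩ := h.2 u hul hu0
  have hqp : H q p = 1 := by rw [I.H_symm hp.1 hq.1, hpq]
  have hfix : I.S (v + H v q • p + H v p • q) = v + H v q • p + H v p • q := by
    rw [I.add, I.add, I.smul, I.smul, hv.1, hp.1, hq.1]
    rcases I.H_fix hv.1 hq.1 with a | a <;> rcases I.H_fix hv.1 hp.1 with b | b <;>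
      rw [a, b] <;> simp
  refine ⟨_, ⟨hfix, fun x hx => ?_⟩, by
    rw [H_add_right4, H_add_right4, H_smul_right, H_smul_right, huv, hup, huq]; simp⟩
  rcases List.mem_cons.1 hx with rfl | hx
  · rw [H_add_left, H_add_left, H_smul_left, H_smul_left, hpp, hqp, mul_zero, add_zero, mul_one]
    exact add_self _
  rcases List.mem_cons.1 hx with rfl | hx
  · rw [H_add_left, H_add_left, H_smul_left, H_smul_left, hpq, hqq, mul_zero, add_zero, mul_one]
    exact add_self _
  · rw [H_add_left, H_add_left, H_smul_left, H_smul_left, hp.2 x hx, hq.2 x hx, hv.2 x hx]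
    simp

/-- A fixed hyperbolic pair of isotropic vectors. -/
theorem exists_pair {l : List Vec} (h : I.Nd l) (hl : l.length + 2 < 6) :
    ∃ p q, I.In l p ∧ I.In l q ∧ H p p = 0 ∧ H q q = 0 ∧ H p q = 1 := by
  have alt : ∀ {m : List Vec}, I.Nd m → m.length < 6 → (∀ v, I.In m v → H v v = 0) →
      ∃ p q, I.In m p ∧ I.In m q ∧ H p p = 0 ∧ H q q = 0 ∧ H p q = 1 := by
    intro m hm hlen hiso
    obtain ⟨u, hu0, hu⟩ := I.exists_In hlen hm.1
    obtain ⟨v, hv, huv⟩ := hm.2 u hu hu0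
    exact ⟨u, v, hu, hv, hiso u hu, hiso v hv, huv⟩
  have weaken : ∀ {x : Vec} {m : List Vec} {v : Vec}, I.In (x :: m) v → I.In m v :=
    fun hv => ⟨hv.1, fun u hu => hv.2 u (List.mem_cons_of_mem _ hu)⟩
  by_cases h0 : ∀ v, I.In l v → H v v = 0
  · exact alt h (by omega) h0
  push Not at h0
  obtain ⟨e, he, hee⟩ := h0
  have he1 := (I.H_fix he.1 he.1).resolve_left hee
  have h1 := I.nd_cons h he he1
  by_cases h2 : ∀ v, I.In (e :: l) v → H v v = 0
  · obtain ⟨p, q, hp, hq, r⟩ := alt h1 (by simp; omega) h2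
    exact ⟨p, q, weaken hp, weaken hq, r⟩
  push Not at h2
  obtain ⟨f, hf, hff⟩ := h2
  have hf1 := (I.H_fix hf.1 hf.1).resolve_left hff
  have h3 := I.nd_cons h1 hf hf1
  by_cases h4 : ∀ v, I.In (f :: e :: l) v → H v v = 0
  · obtain ⟨p, q, hp, hq, r⟩ := alt h3 (by simp; omega) h4
    exact ⟨p, q, weaken (weaken hp), weaken (weaken hq), r⟩
  push Not at h4
  obtain ⟨g, hg, hgg⟩ := h4
  have hg1 := (I.H_fix hg.1 hg.1).resolve_left hgg
  have hfe : H f e = 0 := hf.2 e List.mem_cons_self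
  have hef : H e f = 0 := H_comm_zero.1 hfe
  have hge : H g e = 0 := (weaken hg).2 e List.mem_cons_self
  have heg : H e g = 0 := H_comm_zero.1 hge
  have hgf : H g f = 0 := hg.2 f List.mem_cons_self
  have hfg : H f g = 0 := H_comm_zero.1 hgf
  refine ⟨e + f, e + g, In.add I he (weaken hf), In.add I he (weaken (weaken hg)), ?_, ?_, ?_⟩
  · simp only [H_add_left, H_add_right4, he1, hef, hfe, hf1, add_zero, zero_add]; exact add_self _
  · simp only [H_add_left, H_add_right4, he1, heg, hge, hg1, add_zero, zero_add]; exact add_self _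
  · simp only [H_add_left, H_add_right4, he1, heg, hfe, hfg, add_zero]

/-- Two orthogonal fixed hyperbolic pairs. -/
theorem exists_two : ∃ p₁ q₁ p₂ q₂ : Vec,
    (I.S p₁ = p₁ ∧ I.S q₁ = q₁ ∧ I.S p₂ = p₂ ∧ I.S q₂ = q₂) ∧
    (Pt p₁ ∧ Pt q₁ ∧ Pt p₂ ∧ Pt q₂) ∧ H p₁ q₁ = 1 ∧ H p₂ q₂ = 1 ∧
    H p₁ p₂ = 0 ∧ H q₁ p₂ = 0 ∧ H p₁ q₂ = 0 ∧ H q₁ q₂ = 0 := by
  obtain ⟨p₁, q₁, hp, hq, hpp, hqq, hpq⟩ := I.exists_pair I.nd_nil (by simp)
  obtain ⟨p₂, q₂, hp2, hq2, hpp2, hqq2, hpq2⟩ :=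
    I.exists_pair (I.nd_pair I.nd_nil hp hq hpp hqq hpq) (by simp)
  have ne : ∀ {u v : Vec}, H u v = 1 → u ≠ 0 ∧ v ≠ 0 := fun {u v} h =>
    ⟨fun e => by rw [e, H_zero_left] at h; exact zero_ne_one h,
     fun e => by simp [e, Cfsg.hermForm] at h⟩
  exact ⟨p₁, q₁, p₂, q₂, ⟨hp.1, hq.1, hp2.1, hq2.1⟩,
    ⟨⟨(ne hpq).1, hpp⟩, ⟨(ne hpq).2, hqq⟩, ⟨(ne hpq2).1, hpp2⟩, ⟨(ne hpq2).2, hqq2⟩⟩, hpq, hpq2,
    H_comm_zero.1 (hp2.2 _ List.mem_cons_self),
    H_comm_zero.1 (hp2.2 _ (List.mem_cons_of_mem _ List.mem_cons_self)),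
    H_comm_zero.1 (hq2.2 _ List.mem_cons_self),
    H_comm_zero.1 (hq2.2 _ (List.mem_cons_of_mem _ List.mem_cons_self))⟩

end Invol

end Cfsg.Agent.ThreeTransp.M22Outer
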