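import Cfsg.Agent.Lib.ThreeTransp.M22Iso.AutIndex
import Cfsg.Agent.Lib.ThreeTransp.M22Aut.Outer
import Cfsg.Agent.Lib.ThreeTransp.M22Outer.Semi

/-!
An outer involution of a group of type M(22) fixes one member and two orthogonal non-commuting pairs
of members commuting with it.
-/

set_option autoImplicit false
set_option linter.unusedSectionVars false

namespace Cfsg.Agent.ThreeTransp.M22Outer

open Matrix
open Cfsg.Agent.Classical.Unitary
open Cfsg.Agent.Forms
open Cfsg.Agent.InvChar.Coset (FF)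
open Cfsg.Agent.ThreeTransp
open Cfsg.Agent.ThreeTransp.M22Iso
open Cfsg.Agent.ThreeTransp.Factor (nb Hd mem_Hd Hd_commute)

local notation "H" => Cfsg.hermForm 6 FF 2

universe u

theorem mulVec_sq (v : Vec) : (fun i => v i ^ 2) = fun i => frob (v i) := rfl

/-- A linear map scaling every isotropic vector is a scalar. -/
theorem scalar_of_iso {L : Vec →ₗ[FF] Vec} (hform : ∀ u v, H (L u) (L v) = H u v)
    (h : ∀ v, Pt v → ∃ c : FF, L v = c • v) : ∃ c : FF, ∀ v, L v = c • v := by
  classical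
  choose c hc using h
  have key : ∀ u v (hu : Pt u) (hv : Pt v), c u hu = c v hv := by
    intro u v hu hv
    have hc0 : ∀ w (hw : Pt w), L w ≠ 0 := fun w hw e => by
      obtain ⟨x, hx⟩ : ∃ x, H w x ≠ 0 := by
        obtain ⟨i, hi⟩ : ∃ i, w i ≠ 0 := by
          by_contra! h'; exact hw.1 (funext h')
        refine ⟨Pi.single i 1, ?_⟩
        have : H w (Pi.single i (1 : FF)) = w i := by simp [Cfsg.hermForm, Pi.single_apply]
        rwa [this]
      exact hx (by rw [← hform, e, H_zero_left])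
    by_cases huv : H u v = 0
    · by_cases hl : ∃ k : FF, v = k • u
      · obtain ⟨k, rfl⟩ := hl
        have e1 := hc _ hv
        rw [map_smul, hc u hu, smul_comm] at e1
        exact smul_left_injective FF hv.1 e1
      · have hw : Pt (u + v) := by
          refine ⟨fun e => hl ⟨1, ?_⟩, ?_⟩
          · rw [one_smul]
            calc v = (u + v) + u := by rw [add_comm u v, add_assoc, vec_add_self, add_zero]
              _ = u := by rw [e, zero_add]
          · rw [H_add_left, H_add_right4, H_add_right4, hu.2, hv.2, huv, H_comm_zero.1 huv]; simp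
        have e := hc _ hw
        rw [map_add, hc u hu, hc v hv, smul_add] at e
        have e2 : (c u hu - c (u + v) hw) • u = (c (u + v) hw - c v hv) • v := by
          rw [sub_smul, sub_smul, sub_eq_sub_iff_add_eq_add, e, add_comm]
        by_cases h0 : c (u + v) hw - c v hv = 0
        · rw [h0, zero_smul] at e2
          rw [sub_eq_zero.1 h0] at e2
          exact sub_eq_zero.1 ((smul_eq_zero.1 e2).resolve_right hu.1)
        · refine absurd ⟨(c (u + v) hw - c v hv)⁻¹ * (c u hu - c (u + v) hw), ?_⟩ hl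
          rw [mul_smul, e2, inv_smul_smul₀ h0]
    · have e := hform u v
      rw [hc u hu, hc v hv, H_smul_left, H_smul_right, ← mul_assoc] at e
      have e' : c u hu * c v hv ^ 2 = 1 :=
        mul_right_cancel₀ huv (e.trans (one_mul _).symm)
      have hff : ∀ a b : FF, a * b ^ 2 = 1 → a = b := by decide
      exact hff _ _ e'
  have hp : ∀ i j : Fin 6, i ≠ j → ∀ l : FF, l ≠ 0 →
      Pt (Pi.single i (1 : FF) + l • Pi.single j 1) := by
    unfold Pt
    decide +kernel
  have h01 : Pt (Pi.single 0 (1 : FF) + (1 : FF) • Pi.single 1 1) :=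
    hp 0 1 (by decide) 1 one_ne_zero
  refine ⟨c _ h01, fun v => ?_⟩
  have hs : ∀ j : Fin 6, L (Pi.single j 1) = c _ h01 • (Pi.single j 1 : Vec) := by
    intro j
    obtain ⟨i, hij⟩ := exists_ne j
    have hw : (FF.w : FF) ≠ 0 := by decide
    have a := hc _ (hp i j hij 1 one_ne_zero)
    have b := hc _ (hp i j hij FF.w hw)
    rw [key _ _ _ h01] at a b
    generalize c _ h01 = r at a b ⊢
    have e : ((1 : FF) + FF.w) • L (Pi.single j 1) =
        ((1 : FF) + FF.w) • r • (Pi.single j 1 : Vec) := by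
      have := congrArg₂ (· + ·) a b
      simp only [map_add, map_smul, smul_add, one_smul] at this
      rw [add_smul, add_smul, one_smul, one_smul, smul_comm (FF.w : FF) r]
      calc L (Pi.single j 1) + (FF.w : FF) • L (Pi.single j 1)
          = (L (Pi.single i 1) + L (Pi.single j 1)) +
              (L (Pi.single i 1) + (FF.w : FF) • L (Pi.single j 1)) := by
            rw [add_add_add_comm, vec_add_self, zero_add]
        _ = _ := by rw [this, add_add_add_comm, vec_add_self, zero_add]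
    exact smul_right_injective _ (show (1 : FF) + FF.w ≠ 0 by decide) e
  conv_lhs => rw [← Finset.univ_sum_single v]
  rw [map_sum]
  conv_rhs => rw [← Finset.univ_sum_single v, Finset.smul_sum]
  refine Finset.sum_congr rfl fun i _ => ?_
  rw [show Pi.single i (v i) = v i • (Pi.single i 1 : Vec) by rw [← Pi.single_smul]; simp,
    map_smul, hs, smul_comm]

variable {G : Type u} [Group G] {D : Set G}

/-- The local subgroup acts through matrices. -/
theorem act_of_Hd (hD : Cfsg.IsThreeTranspositionGroup D) {a : G} (C : Coord D a) {h : G}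
    (hh : h ∈ Hd D a) :
    ∃ g : Cfsg.SU 6 FF 2, ∀ v, Pt v → h * C.f v * h⁻¹ = C.f (mat g *ᵥ v) := by
  induction hh using Subgroup.closure_induction with
  | mem y hy =>
    obtain ⟨w, hw, rfl⟩ := C.cover y hy
    refine ⟨Cfsg.Agent.GroupStructure3.ThreeTransUnitary.tr hF4 hw.2, fun v hv => ?_⟩
    rw [Classes.inv hD hy.1, mat_tr, C.line w v hw hv]
  | one => exact ⟨1, fun v _ => by rw [mat_one, one_mulVec, one_mul, inv_one, mul_one]⟩
  | mul p q _ _ hp hq =>
    obtain ⟨g, hg⟩ := hp
    obtain ⟨k, hk⟩ := hq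
    exact ⟨g * k, fun v hv => by rw [mul_mulVec, ← hg _ (hv.mat k), ← hk v hv]; group⟩
  | inv p _ hp =>
    obtain ⟨g, hg⟩ := hp
    refine ⟨g⁻¹, fun v hv => ?_⟩
    have := hg _ (hv.mat g⁻¹)
    rw [← mul_mulVec, mul_inv_cancel, mat_one, one_mulVec] at this
    rw [← this]; group

variable [Finite G] (hD : Cfsg.IsThreeTranspositionGroup D)
  (hprim : Cfsg.IsPrimitiveUnderConj D) (h22 : Cfsg.IsOfTypeM22 G D)
include hD hprim h22

/-- Five members fixed by an outer involution. -/
theorem exists_frame_fixed {α : MulAut G} (h2 : ∀ x, α (α x) = x) (hout : ¬ IsInner α) :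
    ∃ q : Fin 5 → G, (∀ k, q k ∈ D ∧ α (q k) = q k) ∧ Function.Injective q ∧
      ∀ j k : Fin 5, j < k → (Commute (q j) (q k) ↔ ¬ (((j : ℕ) = 1 ∧ (k : ℕ) = 2) ∨
        ((j : ℕ) = 3 ∧ (k : ℕ) = 4))) := by
  classical
  obtain ⟨a, ha, hαa⟩ := M22.exists_fixed_of_aut hD hprim h22 α h2
    fun d hd => (M22Aut.mem_iff hD hprim h22 α).2 hd
  obtain ⟨c, hc, hac⟩ := Classes.exists_noncomm hD hprim.1 hprim.2.1 ha
  obtain ⟨C, hC⟩ := exists_std hD hprim h22 ha hc hac
  have hac1 : ¬ Commute a (α c) := fun h => hac (by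
    have := h.map α
    rw [hαa, h2] at this
    exact this)
  obtain ⟨k, hk, hkc⟩ := RankThree.linked_outer hD hprim (M22.exists_commuting hD hprim h22) ha hc
    ((M22Aut.mem_iff hD hprim h22 α).2 hc) hac hac1
  have hka : k * a * k⁻¹ = a := RankThree.conj_self_of_commute (RankThree.loc_commute hk)
  rw [M22.loc_eq hD hprim h22 ha] at hk
  obtain ⟨β, hβ⟩ : ∃ β : MulAut G, β = MulAut.conj k⁻¹ * α := ⟨_, rfl⟩
  have happ : ∀ x, β x = k⁻¹ * α x * k⁻¹⁻¹ := fun x => by rw [hβ]; rfl
  have hβa : β a = a := by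
    rw [happ, hαa]
    exact RankThree.conj_self_of_commute (Hd_commute (inv_mem hk))
  have hβc : β c = c := by rw [happ, ← hkc]; group
  obtain ⟨h, hh, hcase⟩ := exists_normal hD hprim h22 ha hc hac C hC
    (M22Aut.image_eq hD hprim h22 β) hβa hβc
  have hm : k * h ∈ Hd D a := mul_mem hk hh
  have back : ∀ x, α x = k * β x * k⁻¹ := fun x => by rw [happ]; group
  rcases hcase with hlin | hfrob
  · refine absurd ?_ hout
    obtain ⟨n, hn⟩ := inner_of_fix_ball hD hprim h22 ha hc hac
      (σ := MulAut.conj (k * h)⁻¹ * α) (M22Aut.image_eq hD hprim h22 _)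
      (by
        rw [MulAut.mul_apply, MulAut.conj_apply, hαa]
        exact RankThree.conj_self_of_commute (Hd_commute (inv_mem hm)))
      (fun y hy => by
        obtain ⟨v, hv, rfl⟩ := C.cover y hy
        rw [MulAut.mul_apply, MulAut.conj_apply, back, hlin v hv]; group)
    exact ⟨k * h * n, fun x => by
      have := hn x
      rw [MulAut.mul_apply, MulAut.conj_apply] at this
      calc α x = k * h * ((k * h)⁻¹ * α x * (k * h)⁻¹⁻¹) * (k * h)⁻¹ := by group
        _ = _ := by rw [this]; group⟩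
  obtain ⟨g, hg⟩ := act_of_Hd hD C hm
  let S : Vec → Vec := fun v => mat g *ᵥ fun i => v i ^ 2
  have hPsq : ∀ v, Pt v → Pt fun i => v i ^ 2 := by
    intro v hv
    have h1 : ∀ _i : Fin 6, (1 : FF) ≠ 0 := fun _ => one_ne_zero
    have := (mon 1 (fun _ => 1) h1 frob).pt hv
    rwa [show (mon 1 (fun _ => 1) h1 frob).T v = fun i => v i ^ 2 from funext fun i => by
      have e := mon_apply 1 (fun _ => (1 : FF)) h1 frob v i
      rw [Equiv.Perm.one_apply] at e
      rw [e, mul_one, frob_apply]] at this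
  have hS : ∀ v, Pt v → Pt (S v) ∧ α (C.f v) = C.f (S v) := fun v hv => by
    refine ⟨(hPsq v hv).mat g, ?_⟩
    rw [back, hfrob v hv, ← hg _ (hPsq v hv)]
    group
  have add : ∀ u v, S (u + v) = S u + S v := fun u v => by
    simp only [S, ← Matrix.mulVec_add]
    exact congrArg _ (funext fun i => sq_add _ _)
  have smul : ∀ (r : FF) v, S (r • v) = r ^ 2 • S v := fun r v => by
    simp only [S, ← Matrix.mulVec_smul]
    exact congrArg _ (funext fun i => by simp [mul_pow])
  have form : ∀ u v, H (S u) (S v) = H u v ^ 2 := fun u v => by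
    simp only [S, SU_H]
    rw [show H u v ^ 2 = frob (H u v) from rfl]
    simp only [Cfsg.hermForm, map_sum, map_mul, map_pow, frob_apply]
  let L : Vec →ₗ[FF] Vec :=
    { toFun := fun v => S (S v)
      map_add' := fun u v => by rw [add, add]
      map_smul' := fun r v => by rw [smul, smul, sq_sq, RingHom.id_apply] }
  obtain ⟨r, hr⟩ := scalar_of_iso (L := L)
    (fun u v => by
      show H (S (S u)) (S (S v)) = H u v
      rw [form, form, sq_sq])
    (fun v hv => by
      refine (C.eq_iff v _ hv (hS _ (hS v hv).1).1).1 ?_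
      rw [← (hS _ (hS v hv).1).2, ← (hS v hv).2, h2])
  have hsq : ∀ v, S (S v) = v := by
    have p01 : Pt (pl 0 1 (1 : FF)) := pl_pt (by decide) one_ne_zero
    have h1 : S (S (S (pl 0 1 1))) = r • S (pl 0 1 1) := hr _
    have h3 : S (S (pl 0 1 (1 : FF))) = r • pl 0 1 1 := hr _
    rw [h3, smul] at h1
    have e := smul_left_injective FF (hS _ p01).1.1 h1
    have hr0 : r ≠ 0 := fun e0 => (hS _ (hS _ p01).1).1.1 (by rw [h3, e0, zero_smul])
    have r1 : r = 1 := by
      clear * - e hr0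
      revert e hr0 r
      decide
    intro v
    rw [show S (S v) = r • v from hr v, r1, one_smul]
  obtain ⟨p₁, q₁, p₂, q₂, ⟨f1, f2, f3, f4⟩, ⟨t1, t2, t3, t4⟩, e12, e34, e13, e23, e14, e24⟩ :=
    Invol.exists_two ⟨S, add, smul, form, hsq⟩
  have fx : ∀ v, Pt v → S v = v → α (C.f v) = C.f v := fun v hv e => by rw [(hS v hv).2, e]
  have ne : ∀ {u v : Vec}, Pt u → Pt v → H u v = 1 → ¬ Commute (C.f u) (C.f v) := fun hu hv e h => by
    rw [(C.comm_iff _ _ hu hv).1 h] at e
    exact zero_ne_one e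
  have hcm : ∀ {u v : Vec}, Pt u → Pt v → H u v = 0 → Commute (C.f u) (C.f v) :=
    fun hu hv e => (C.comm_iff _ _ hu hv).2 e
  have n12 := ne t1 t2 e12
  have n34 := ne t3 t4 e34
  have c13 := hcm t1 t3 e13
  have c14 := hcm t1 t4 e14
  have c23 := hcm t2 t3 e23
  have c24 := hcm t2 t4 e24
  refine ⟨![a, C.f p₁, C.f q₁, C.f p₂, C.f q₂], ?_, ?_, ?_⟩
  · intro j
    fin_cases j
    exacts [⟨ha, hαa⟩, ⟨C.mem_D t1, fx _ t1 f1⟩, ⟨C.mem_D t2, fx _ t2 f2⟩, ⟨C.mem_D t3, fx _ t3 f3⟩,
      ⟨C.mem_D t4, fx _ t4 f4⟩]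
  · have d1 := (C.mem _ t1).2.1
    have d2 := (C.mem _ t2).2.1
    have d3 := (C.mem _ t3).2.1
    have d4 := (C.mem _ t4).2.1
    have x12 : C.f p₁ ≠ C.f q₁ := fun e => n12 (by rw [e])
    have x34 : C.f p₂ ≠ C.f q₂ := fun e => n34 (by rw [e])
    have x13 : C.f p₁ ≠ C.f p₂ := fun e => n34 (by rw [← e]; exact c14)
    have x14 : C.f p₁ ≠ C.f q₂ := fun e => n34 (by rw [← e]; exact c13.symm)
    have x23 : C.f q₁ ≠ C.f p₂ := fun e => n34 (by rw [← e]; exact c24)
    have x24 : C.f q₁ ≠ C.f q₂ := fun e => n34 (by rw [← e]; exact c23.symm)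
    rw [← List.nodup_ofFn]
    simp only [List.ofFn_succ, List.ofFn_zero, List.nodup_cons, List.mem_cons, List.not_mem_nil,
      or_false, not_or, List.nodup_nil, and_true, not_false_eq_true]
    exact ⟨⟨d1.symm, d2.symm, d3.symm, d4.symm⟩, ⟨x12, x13, x14⟩, ⟨x23, x24⟩, x34⟩
  · have m1 := (C.mem _ t1).2.2
    have m2 := (C.mem _ t2).2.2
    have m3 := (C.mem _ t3).2.2
    have m4 := (C.mem _ t4).2.2
    intro i j hij
    fin_cases i <;> fin_cases j <;>
      first | exact absurd hij (by decide) | (simp; assumption)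

end Cfsg.Agent.ThreeTransp.M22Outer
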