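import Cfsg.Agent.Lib.ThreeTransp.M22Outer.Chain
import Cfsg.Agent.Lib.ThreeTransp.M22Outer.CentCheck
import Cfsg.Agent.Lib.ThreeTransp.M22Eight.Inside

/-!
The fixed subgroup of the first representative is a conjugate of the subgroup isomorphic to the
automorphism group of the orthogonal group of plus type in dimension eight.
-/

set_option autoImplicit false
set_option linter.all false
set_option maxRecDepth 100000

noncomputable section

namespace Cfsg.Agent.ThreeTransp.M22Outer

open Cfsg.Agent.InvChar.Coset Cfsg.Agent.InvChar.Coset.Fi22B Cfsg.Agent.InvChar.Coset.FiUnit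
  Cfsg.Agent.InvChar.Coset.FiOut
open Tables

local notation "FG" => Cfsg.Agent.InvChar.Coset.FiUnit.FiG

/-- The first centraliser. -/
theorem Cfix_zero_iso : Nonempty (↥(Cfix 0) ≃*
    MulAut ↥(Cfsg.Omega (ZMod 2) (Cfsg.quadFormPlus 4 (ZMod 2)))) := by
  haveI : Finite FG := finite_Fi
  obtain ⟨hcard, ⟨i⟩⟩ := M22Eight.finish
  obtain ⟨hw, hk⟩ := align_ok
  have hs := (small_of_wordOK hw).1
  set c := MulAut.conj (pw alignW) with hc
  have hle : M22Eight.Ia.map c.toMonoidHom ≤ Cfix 0 := by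
    rw [M22Eight.Ia, MonoidHom.map_closure, Subgroup.closure_le]
    rintro _ ⟨_, ⟨k, hk', rfl⟩, rfl⟩
    have h := scan_spec _ hk k hk'
    have e : φ (pw alignW) (M22Eight.pnt ⟨k, hk'⟩) = toPt (runW alignW (M22Eight.np k)) := Fin.ext (by
      rw [phi_pw hs, toPt_val]
      · rfl
      · have := lt_n (φ (pw alignW) (M22Eight.pnt ⟨k, hk'⟩))
        rwa [phi_pw hs] at this)
    show c (M22Eight.g9 k) ∈ Cfix 0
    rw [hc, MulAut.conj_apply, show M22Eight.g9 k = dd (M22Eight.pnt ⟨k, hk'⟩) from M22Eight.g9_eq ⟨k, hk'⟩,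
      conj_dd, e]
    refine dd_mem_Cfix (by norm_num) ?_ h
    have := lt_n (φ (pw alignW) (M22Eight.pnt ⟨k, hk'⟩))
    rwa [phi_pw hs] at this
  have heq : M22Eight.Ia.map c.toMonoidHom = Cfix 0 := Subgroup.eq_of_le_of_card_ge hle (by
    rw [Subgroup.card_map_of_injective c.injective, hcard, card_Cfix.1])
  exact ⟨((MulEquiv.subgroupCongr heq.symm).trans
    (M22Eight.Ia.equivMapOfInjective _ c.injective).symm).trans i⟩

end Cfsg.Agent.ThreeTransp.M22Outer
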