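import Cfsg.Agent.Lib.ThreeTransp.M22Outer.Points

/-!
Homomorphisms out of groups generated by transpositions, read from the action on labelled points.
-/

set_option autoImplicit false
set_option linter.all false
set_option maxRecDepth 100000

noncomputable section

namespace Cfsg.Agent.ThreeTransp.M22Outer

open Cfsg.Agent.InvChar.Coset Cfsg.Agent.InvChar.Coset.Fi22B Cfsg.Agent.InvChar.Coset.FiUnit
  Cfsg.Agent.InvChar.Coset.FiOut

local notation "FG" => Cfsg.Agent.InvChar.Coset.FiUnit.FiG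

/-- The group generated by the listed transpositions. -/
def Kgen (M : List ℕ) : Subgroup FG := Subgroup.closure {g | ∃ x ∈ M, g = dd (toPt x)}

theorem dd_mem_Kgen {M : List ℕ} {x : ℕ} (hx : x ∈ M) : dd (toPt x) ∈ Kgen M :=
  Subgroup.subset_closure ⟨x, hx, rfl⟩

theorem pw_mem_Kgen {M : List ℕ} : ∀ {w : List ℕ}, (∀ x ∈ w, x ∈ M) → pw w ∈ Kgen M
  | [], _ => one_mem _
  | x :: w, h => mul_mem (pw_mem_Kgen fun y hy => h y (List.mem_cons_of_mem _ hy))
      (dd_mem_Kgen (h x List.mem_cons_self))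

theorem phi_dd_small {x y : ℕ} (hx : x < 3510) (hy : y < 3510) :
    (φ (dd (toPt x)) (toPt y) : ℕ) = runW [x] y := by
  have h := phi_pw (w := [x]) (by simpa [Small] using hx) (toPt y)
  rw [pw, pw, one_mul, toPt_val hy] at h
  exact h

/-- A homomorphism read from the action on labelled points. -/
theorem exists_hom {T : Type} [Group T] {V : Type} (α : T → V → V) (h1 : ∀ v, α 1 v = v)
    (hmul : ∀ a b v, α (a * b) v = α a (α b v)) (M L : List ℕ) (hM : ∀ x ∈ M, x < 3510)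
    (hL : ∀ y ∈ L, y < 3510) (ν : ℕ → V) (r : ℕ → T)
    (hgen : ∀ x ∈ M, ∀ y ∈ L, runW [x] y ∈ L ∧ ν (runW [x] y) = α (r x) (ν y))
    (faith : ∀ t, (∀ y ∈ L, α t (ν y) = ν y) → t = 1) :
    ∃ f : Kgen M →* T, (∀ x (h : x ∈ M), f ⟨dd (toPt x), dd_mem_Kgen h⟩ = r x) ∧
      ∀ (g : Kgen M), ∀ y ∈ L, (φ g.1 (toPt y) : ℕ) ∈ L ∧ ν (φ g.1 (toPt y) : ℕ) = α (f g) (ν y) := by
  haveI : Finite FG := finite_Fi
  let P : FG → T → Prop := fun g t =>
    ∀ y ∈ L, (φ g (toPt y) : ℕ) ∈ L ∧ ν (φ g (toPt y) : ℕ) = α t (ν y)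
  have p1 : P 1 1 := fun y hy => by
    rw [map_one, Equiv.Perm.one_apply, toPt_val (hL y hy), h1]
    exact ⟨hy, rfl⟩
  have pmul : ∀ {g h : FG} {a b : T}, P g a → P h b → P (g * h) (a * b) := by
    intro g h a b hg hh y hy
    obtain ⟨hy', e⟩ := hh y hy
    have h2 := hg _ hy'
    rw [toPt_self] at h2
    rw [map_mul, Equiv.Perm.mul_apply, hmul, ← e]
    exact h2
  have ex : ∀ g ∈ Kgen M, ∃ t, P g t := by
    intro g hg
    have inv2 : ∀ x : FG, x ∈ ({g | ∃ x ∈ M, g = dd (toPt x)} : Set FG) → x⁻¹ = x := by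
      rintro _ ⟨x, -, rfl⟩
      exact inv_eq_of_mul_eq_one_left (dd_sq _)
    induction hg using Subgroup.closure_induction'' with
    | mem x hx =>
      obtain ⟨x, hx, rfl⟩ := hx
      exact ⟨r x, fun y hy => by rw [phi_dd_small (hM x hx) (hL y hy)]; exact hgen x hx y hy⟩
    | inv_mem x hx =>
      rw [inv2 x hx]
      obtain ⟨x, hx, rfl⟩ := hx
      exact ⟨r x, fun y hy => by rw [phi_dd_small (hM x hx) (hL y hy)]; exact hgen x hx y hy⟩
    | one => exact ⟨1, p1⟩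
    | mul a b _ _ ha hb =>
      obtain ⟨s, hs⟩ := ha
      obtain ⟨t, ht⟩ := hb
      exact ⟨s * t, pmul hs ht⟩
  have uniq : ∀ {g : FG} {a b : T}, P g a → P g b → a = b := by
    intro g a b ha hb
    refine (inv_mul_eq_one.1 (faith (b⁻¹ * a) fun y hy => ?_)).symm
    rw [hmul, ← (ha y hy).2, (hb y hy).2, ← hmul, inv_mul_cancel, h1]
  choose t ht using ex
  exact ⟨{ toFun := fun g => t g.1 g.2
           map_one' := uniq (ht _ _) p1
           map_mul' := fun g h => uniq (ht _ _) (pmul (ht g.1 g.2) (ht h.1 h.2)) },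
    fun x hx => uniq (ht _ _) fun y hy => by
      rw [phi_dd_small (hM x hx) (hL y hy)]; exact hgen x hx y hy,
    fun g => ht g.1 g.2⟩

theorem xor_cast {a b : ℕ} (i : ℕ) :
    ((Nat.mod (Nat.shiftRight (Nat.xor a b) i) 2 : ℕ) : ZMod 2) =
      ((Nat.mod (Nat.shiftRight a i) 2 : ℕ) : ZMod 2) + ((Nat.mod (Nat.shiftRight b i) 2 : ℕ) : ZMod 2) := by
  show ((((a ^^^ b) >>> i) % 2 : ℕ) : ZMod 2) = ((a >>> i % 2 : ℕ) : ZMod 2) + ((b >>> i % 2 : ℕ) : ZMod 2)
  rw [Nat.shiftRight_xor_distrib]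
  rcases Nat.mod_two_eq_zero_or_one (a >>> i) with ha | ha <;>
    rcases Nat.mod_two_eq_zero_or_one (b >>> i) with hb | hb <;>
    simp [ha, hb, Nat.xor_mod_two_eq, Nat.add_mod] <;> decide

end Cfsg.Agent.ThreeTransp.M22Outer
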