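import Cfsg.Agent.Lib.ThreeTransp.M22Outer.Chain
import Cfsg.Agent.Lib.ThreeTransp.M22Outer.Hom
import Cfsg.Agent.Lib.ThreeTransp.M22Outer.CentCheck
import Cfsg.Agent.Lib.Forms.Aut42
import Cfsg.Agent.Lib.Forms.Reflections
import Cfsg.Agent.Lib.Forms.Spinor
import Cfsg.Agent.S0288
import Cfsg.Agent.Lib.Cores.Basic
import Cfsg.Agent.Lib.SuzukiType.Frame

/-!
The fixed subgroup of the third representative: an elementary abelian group of order 64 extended by
the orthogonal group of minus type in dimension six over the field with two elements.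
-/

set_option autoImplicit false
set_option linter.all false
set_option maxRecDepth 100000

noncomputable section

namespace Cfsg.Agent.ThreeTransp.M22Outer

open Cfsg.Agent.CosetCert
open Cfsg.Agent.InvChar.Coset Cfsg.Agent.InvChar.Coset.Fi22B Cfsg.Agent.InvChar.Coset.FiUnit
  Cfsg.Agent.InvChar.Coset.FiOut
open Cfsg.Agent.Forms.QuadStd Cfsg.Agent.Forms.Reflections Cfsg.Agent.Forms.Spinor
open Cfsg.Agent.SuzukiType (F6 O6 anis)
open Cfsg.Agent.Classical.OrthForms
open Tables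

local notation "V6" => Cfsg.Agent.SuzukiType.V
local notation "FG" => Cfsg.Agent.InvChar.Coset.FiUnit.FiG

attribute [local irreducible] sel

theorem fixedTwo_eq : sel (fixT 2) 3510 = fixedTwo := CosetCert.beqList_iff fixed_lists.2

theorem mem_fixedTwo {x : ℕ} : x ∈ fixedTwo ↔ x < 3510 ∧ fixT 2 x = true := by
  rw [← fixedTwo_eq]; exact mem_sel

/-- A vector from its code. -/
def dw (n : ℕ) : V6 :=
  Sum.elim (Sum.elim (fun i => (bitN n i : ZMod 2)) (fun i => (bitN n (2 + i) : ZMod 2)))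
    (fun i => (bitN n (4 + i) : ZMod 2))

theorem dw_xor (a b : ℕ) : dw (Nat.xor a b) = dw a + dw b := by
  funext i
  rcases i with (i | i) | i <;> exact xor_cast _

theorem qN_cast (a : ℕ) : ((qN a : ℕ) : ZMod 2) = F6 (dw a) := by
  have sq : ∀ x : ZMod 2, x ^ 2 = x := by decide
  rw [show F6 (dw a) = Cfsg.quadFormMinus 2 (ZMod 2) 1 1 (dw a) by rw [minQ_eq]]
  simp only [qN, Cfsg.quadFormMinus, ZMod.natCast_mod, Nat.cast_add, Nat.cast_mul, dw, Fin.sum_univ_two,
    Sum.elim_inl, Sum.elim_inr, one_mul, sq, Fin.val_zero, Fin.val_one]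
  ring

theorem polN_cast (a b : ℕ) : ((polN a b : ℕ) : ZMod 2) = QuadraticMap.polar F6 (dw a) (dw b) := by
  have e : ∀ x y : ZMod 2, x + y = x - y := by decide
  simp only [polN, ZMod.natCast_mod, Nat.cast_add, qN_cast, QuadraticMap.polar, dw_xor]
  rw [e, e]

theorem dw_rflN {a : ℕ} (ha : qN a = 1) (b : ℕ) : dw (rflN a b) = act (reflect F6 (dw a)) (dw b) := by
  have e : ∀ x y : V6, x - y = x + y := fun x y => funext fun i =>
    (show ∀ u v : ZMod 2, u - v = u + v by decide) _ _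
  rw [act_reflect, ← qN_cast, ha, Nat.cast_one, inv_one, one_mul, ← polN_cast, e, rflN]
  have h2 : polN a b < 2 := Nat.mod_lt _ (by norm_num)
  obtain h | h : polN a b = 0 ∨ polN a b = 1 := by omega
  · rw [h]
    show dw b = _
    simp
  · rw [h]
    show dw (Nat.xor b a) = _
    rw [dw_xor]
    simp

theorem dw_surj : ∀ v : V6, ∃ n < 64, dw n = v := by decide +kernel

theorem Kgen_eq : Kgen fixedTwo = Cfix 2 := by
  refine le_antisymm ?_ ?_
  · refine (Subgroup.closure_le _).2 ?_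
    rintro _ ⟨x, hx, rfl⟩
    exact dd_mem_Cfix (by norm_num) (mem_fixedTwo.1 hx).1 (mem_fixedTwo.1 hx).2
  have hword : ∀ {w : List ℕ}, wordOK (fixT 2) w = true → pw w ∈ Kgen fixedTwo := fun {w} hw => by
    obtain ⟨hs, hf⟩ := small_of_wordOK hw
    exact pw_mem_Kgen fun x hx => mem_fixedTwo.2 ⟨hs x hx, hf x hx⟩
  have h5 : Hk 2 5 ≤ Kgen fixedTwo := by
    rintro g ⟨hg, hfix⟩
    obtain ⟨i, hi, rfl⟩ := stab_elem hfix
    have hmem : i ∈ bStab := by rw [← chain_b.2]; exact mem_sel.2 ⟨hi, (commT_iff (by norm_num) hi).1 hg⟩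
    obtain ⟨j, hj, rfl⟩ : ∃ j < 4, nthNat bStab j = i :=
      (show ∀ i ∈ bStab, ∃ j < 4, nthNat bStab j = i by decide +kernel) i hmem
    have h := scan_spec _ wit_ok.1 j hj
    simp only [Bool.and_eq_true] at h
    have hw := (small_of_wordOK h.1).1
    have e : (pw (stabW (nthNat bStab j)))⁻¹ * pw (witW j) = 1 := eq_one_of_fix fun k => by
      rw [map_mul, Equiv.Perm.mul_apply, map_inv, Equiv.Perm.inv_eq_iff_eq]
      refine Fin.ext ?_
      rw [phi_pw hw, phi_pw (stabW_spec hi).1]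
      exact Nat.eq_of_beq_eq_true (scan_spec _ h.2 k k.2)
    rw [inv_mul_eq_one.1 e]
    exact hword h.1
  have step : ∀ {fs : List Bool} {as bs : List (List ℕ)} {cs : List (List (List ℕ))} {k : ℕ},
      stepsOK 2 k fs as bs cs = true → k + bs.length = 5 → Hk 2 k ≤ Kgen fixedTwo := by
    intro fs
    induction fs with
    | nil =>
      intro as bs cs k h hk
      rcases as with _ | ⟨a, as⟩ <;> rcases bs with _ | ⟨b, bs⟩ <;> rcases cs with _ | ⟨c, cs⟩ <;>
        simp [stepsOK] at h hk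
      rw [hk]; exact h5
    | cons f fs ih =>
      intro as bs cs k h hk
      rcases as with _ | ⟨a, as⟩ <;> rcases bs with _ | ⟨b, bs⟩ <;> rcases cs with _ | ⟨c, cs⟩ <;>
        simp [stepsOK] at h hk
      obtain ⟨hstep, hrest⟩ := h
      have hk5 : k < 5 := by omega
      intro g hg
      obtain ⟨w, hw, ht, htk⟩ := exists_move (by norm_num) hk5 hstep hg
      have hmem : (pw w)⁻¹ * g ∈ Hk 2 (k + 1) := ⟨mul_mem (inv_mem ht.1) hg.1, fun j hj => by
        rw [map_mul, Equiv.Perm.mul_apply, map_inv, Equiv.Perm.inv_eq_iff_eq]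
        rcases Nat.lt_succ_iff_lt_or_eq.1 hj with e | rfl
        exacts [by rw [hg.2 j e, ht.2 j e], htk.symm]⟩
      have := mul_mem (hword hw) (ih hrest (by omega) hmem)
      rwa [mul_inv_cancel_left] at this
  rw [← Hk_zero]
  exact step chain_b.1 (by
    have : bKeys.length = 5 := by rw [← List.length_map (f := List.length), chain_lengths.2.2.1]; rfl
    omega)

theorem card_O6 : Nat.card ↥O6 = 51840 := by
  show Nat.card (Cfsg.isometryGroup (ZMod 2) ⇑F6) = 51840
  rw [minQ_eq]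
  exact (S0288.result (F := ZMod 2) (ZMod.card 2) 3 (by norm_num) 1 1 anis).trans (by decide)

/-- The third centraliser. -/
theorem Cfix_two_struct : ∃ f : ↥(Cfix 2) →* ↥O6, Function.Surjective f ∧
    Cfsg.IsElementaryAbelian 2 (f.ker.map (Cfix 2).subtype) ∧
    Nat.card ↥(f.ker.map (Cfix 2).subtype) = 64 ∧ f.ker = Cfsg.pCore 2 ↥(Cfix 2) := by
  classical
  haveI : Finite FG := finite_Fi
  haveI : Fact (Nat.Prime 2) := ⟨Nat.prime_two⟩
  have hlt : ∀ x ∈ fixedTwo, x < 3510 := fun x hx => (mem_fixedTwo.1 hx).1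
  have hcode : ∀ x ∈ fixedTwo, qN (code2 x) = 1 := fun x hx => by
    have h := allB_spec orth_ok x hx
    simp only [Bool.and_eq_true, Nat.beq_eq] at h
    exact h.2.1
  obtain ⟨f₀, hf₀, hact₀⟩ := exists_hom (fun (A : ↥O6) (v : V6) => act A v)
    (fun v => act_one v) (fun a b v => act_mul a b v) fixedTwo fixedTwo hlt hlt
    (fun x => dw (code2 x)) (fun x => reflect F6 (dw (code2 x)))
    (fun x hx y hy => by
      have h := allB_spec orth_ok x hx
      simp only [Bool.and_eq_true] at h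
      have h' := allB_spec h.2.2 y hy
      simp only [Bool.and_eq_true, Nat.beq_eq] at h'
      exact ⟨memB_iff.1 h'.1, by rw [h'.2, dw_rflN (hcode x hx)]⟩)
    (fun t ht => by
      refine iso_ext fun v => ?_
      obtain ⟨n, hn, rfl⟩ := dw_surj v
      obtain ⟨x, hx, hy'⟩ := anyB_iff.1 (scan_spec _ orth_all.2 n hn)
      obtain ⟨y, hy, hxy⟩ := anyB_iff.1 hy'
      rw [Nat.beq_eq] at hxy
      rw [← hxy, dw_xor]
      show act t (dw (code2 x) + dw (code2 y)) = act 1 (dw (code2 x) + dw (code2 y))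
      rw [map_add, ht x hx, ht y hy, act_one])
  obtain ⟨f, hfdef⟩ : ∃ f : ↥(Cfix 2) →* ↥O6,
      f = f₀.comp (MulEquiv.subgroupCongr Kgen_eq.symm).toMonoidHom := ⟨_, rfl⟩
  have hact : ∀ (g : ↥(Cfix 2)), ∀ y ∈ fixedTwo, (φ g.1 (toPt y) : ℕ) ∈ fixedTwo ∧
      dw (code2 (φ g.1 (toPt y) : ℕ)) = act (f g) (dw (code2 y)) := fun g y hy => by
    have h := hact₀ ((MulEquiv.subgroupCongr Kgen_eq.symm) g) y hy
    rw [hfdef, MonoidHom.comp_apply]
    exact h
  have hsurj : Function.Surjective f := by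
    have h : (⊤ : Subgroup ↥O6) ≤ f₀.range := by
      rw [← refGroup_eq_top (minQ_nondeg 2 anis) (Or.inr (by simp)), refGroup, Subgroup.closure_le]
      rintro _ ⟨v, hv, rfl⟩
      obtain ⟨n, hn, rfl⟩ := dw_surj v
      have hs := scan_spec _ orth_all.1 n hn
      rw [Bool.or_eq_true, anyB_iff, Nat.beq_eq] at hs
      rcases hs with h0 | ⟨x, hx, hxn⟩
      · rw [← qN_cast, h0, Nat.cast_zero] at hv
        exact absurd rfl hv
      · rw [Nat.beq_eq] at hxn
        exact ⟨⟨dd (toPt x), dd_mem_Kgen hx⟩, by rw [hf₀ x hx, hxn]⟩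
    intro A
    obtain ⟨g, hg⟩ := h (Subgroup.mem_top A)
    refine ⟨(MulEquiv.subgroupCongr Kgen_eq.symm).symm g, ?_⟩
    rw [hfdef, MonoidHom.comp_apply, MulEquiv.coe_toMonoidHom, MulEquiv.apply_symm_apply, hg]
  have fib : ∀ (g : ↥(Cfix 2)), g ∈ f.ker → ∀ y ∈ fixedTwo,
      (φ g.1 (toPt y) : ℕ) = y ∨ (φ g.1 (toPt y) : ℕ) = mate2 y := by
    intro g hg y hy
    obtain ⟨hy', e⟩ := hact g y hy
    rw [MonoidHom.mem_ker.1 hg, act_one] at e
    have h := allB_spec (allB_spec orth_fibres y hy) _ hy'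
    simp only [Bool.or_eq_true, Bool.not_eq_true', Nat.beq_eq] at h
    rcases h with h | h
    · exfalso
      have hq : ∀ a < 64, ∀ b < 64, dw a = dw b → a = b := by decide +kernel
      have hb : ∀ z ∈ fixedTwo, code2 z < 64 := fun z hz => by
        have h := allB_spec orth_ok z hz
        simp only [Bool.and_eq_true, Nat.blt_eq] at h
        exact h.1
      rw [← Bool.not_eq_true, Nat.beq_eq] at h
      exact h (hq _ (hb y hy) _ (hb _ hy') e.symm)
    · exact h
  have trivial_fix : ∀ g : ↥(Cfix 2), (∀ y ∈ fixedTwo, φ g.1 (toPt y) = toPt y) → g = 1 := by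
    intro g hg
    have hb : ∀ k < 5, φ g.1 (bp k) = bp k := fun k hk =>
      hg (base k) (memB_iff.1 (scan_spec _ stab_faithful.2.2 k hk))
    obtain ⟨i, hi, hgi⟩ := stab_elem hb
    have hmem : i ∈ bStab := by
      rw [← chain_b.2]
      exact mem_sel.2 ⟨hi, (commT_iff (by norm_num) hi).1 (hgi ▸ g.2)⟩
    have h := allB_spec stab_faithful.1 i hmem
    simp only [Bool.or_eq_true, Nat.beq_eq, anyB_iff, Bool.not_eq_true'] at h
    rcases h with rfl | ⟨y, hy, hne⟩
    · exact Subtype.ext (by rw [hgi, stab_faithful.2.1]; rfl)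
    · exfalso
      rw [← Bool.not_eq_true, Nat.beq_eq] at hne
      refine hne ?_
      have e := congrArg Fin.val (hg y hy)
      rwa [hgi, phi_pw (stabW_spec hi).1, toPt_val (hlt y hy)] at e
  -- two members of the kernel act on each fibre as powers of one swap
  have pair : ∀ (g h : ↥(Cfix 2)), g ∈ f.ker → h ∈ f.ker → ∀ y ∈ fixedTwo,
      φ (g * h).1 (toPt y) = φ (h * g).1 (toPt y) ∧ φ (g * g).1 (toPt y) = toPt y := by
    intro g h hg hh y hy
    have hm := allB_spec mates_ok y hy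
    simp only [Bool.and_eq_true, Bool.not_eq_true', Nat.beq_eq] at hm
    obtain ⟨hz, hzz, hzy⟩ := hm
    rw [← Bool.not_eq_true, Nat.beq_eq] at hzy
    have hz' := memB_iff.1 hz
    obtain ⟨Y, hY⟩ : ∃ Y, Y = toPt y := ⟨_, rfl⟩
    obtain ⟨Z, hZ⟩ : ∃ Z, Z = toPt (mate2 y) := ⟨_, rfl⟩
    have hne : Y ≠ Z := fun e => hzy (by
      have := congrArg Fin.val e
      rw [hY, hZ, toPt_val (hlt y hy), toPt_val (hlt _ hz')] at this
      exact this.symm)
    have key : ∀ k : ↥(Cfix 2), k ∈ f.ker →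
        (φ k.1 Y = Y ∧ φ k.1 Z = Z) ∨ (φ k.1 Y = Z ∧ φ k.1 Z = Y) := by
      intro k hk
      have c1 : φ k.1 Y = Y ∨ φ k.1 Y = Z := by
        rw [hY, hZ]
        rcases fib k hk y hy with e | e
        · exact Or.inl (Fin.ext (e.trans (toPt_val (hlt y hy)).symm))
        · exact Or.inr (Fin.ext (e.trans (toPt_val (hlt _ hz')).symm))
      have c2 : φ k.1 Z = Z ∨ φ k.1 Z = Y := by
        rw [hY, hZ]
        rcases fib k hk _ hz' with e | e
        · exact Or.inl (Fin.ext (e.trans (toPt_val (hlt _ hz')).symm))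
        · rw [hzz] at e
          exact Or.inr (Fin.ext (e.trans (toPt_val (hlt y hy)).symm))
      rcases c1 with a | a <;> rcases c2 with b | b
      · exact Or.inl ⟨a, b⟩
      · exact absurd ((φ k.1).injective (a.trans b.symm)) hne
      · exact absurd ((φ k.1).injective (a.trans b.symm)) hne
      · exact Or.inr ⟨a, b⟩
    simp only [Subgroup.coe_mul, map_mul, Equiv.Perm.mul_apply, ← hY]
    rcases key g hg with ⟨a, a'⟩ | ⟨a, a'⟩ <;> rcases key h hh with ⟨b, b'⟩ | ⟨b, b'⟩ <;>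
      simp only [a, a', b, b', and_self]
  have hcomm : ∀ g h : ↥(Cfix 2), g ∈ f.ker → h ∈ f.ker → g * h = h * g := fun g h hg hh =>
    inv_mul_eq_one.1 (trivial_fix _ fun y hy => by
      rw [Subgroup.coe_mul, InvMemClass.coe_inv, map_mul, Equiv.Perm.mul_apply, map_inv,
        Equiv.Perm.inv_eq_iff_eq]
      exact ((pair g h hg hh y hy).1).symm)
  have hsq : ∀ g : ↥(Cfix 2), g ∈ f.ker → g ^ 2 = 1 := fun g hg => trivial_fix _ fun y hy => by
    rw [pow_two]; exact (pair g g hg hg y hy).2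
  have hp : IsPGroup 2 f.ker := fun g => ⟨1, Subtype.ext (by
    rw [pow_one, Subgroup.coe_pow]; exact hsq g g.2)⟩
  have hcard : Nat.card ↥f.ker = 64 := by
    have h := Subgroup.card_eq_card_quotient_mul_card_subgroup f.ker
    rw [card_Cfix.2, Nat.card_congr (QuotientGroup.quotientKerEquivOfSurjective f hsurj).toEquiv, card_O6] at h
    omega
  refine ⟨f, hsurj, ⟨?_, ?_⟩, ?_, ?_⟩
  · refine ⟨⟨?_⟩⟩
    rintro ⟨_, g, hg, rfl⟩ ⟨_, h, hh, rfl⟩
    refine Subtype.ext ?_
    exact congrArg (fun z : ↥(Cfix 2) => (z : FG)) (hcomm g h hg hh)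
  · rintro _ ⟨g, hg, rfl⟩
    exact congrArg Subtype.val (hsq g hg)
  · rw [Subgroup.card_map_of_injective (Cfix 2).subtype_injective, hcard]
  · refine le_antisymm (Cfsg.Agent.Cores.le_pCore hp) fun g hg => ?_
    have hP : IsPGroup 2 ↥((Cfsg.pCore 2 ↥(Cfix 2)).map f) :=
      (Cfsg.Agent.Cores.pCore_isPGroup 2).map f
    set R := (Cfsg.pCore 2 ↥(Cfix 2)).map f with hR
    haveI : (Cfsg.pCore 2 ↥(Cfix 2)).Normal := inferInstance
    haveI hRn : R.Normal := Subgroup.Normal.map inferInstance f hsurj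
    have hRO : R = ⊥ := by
      haveI := Cfsg.Agent.SuzukiType.omega_simple
      have hmeet : R.subgroupOf (Cfsg.Omega (ZMod 2) ⇑F6) = ⊥ := by
        refine (inferInstance : (R.subgroupOf _).Normal).eq_bot_or_eq_top.resolve_right fun h => ?_
        have hle := Subgroup.subgroupOf_eq_top.1 h
        obtain ⟨n, hn⟩ := hP.exists_card_eq
        have hd := Subgroup.card_dvd_of_le hle
        rw [Cfsg.Agent.SuzukiType.card_omega, hn] at hd
        have h3 : 3 ∣ 2 ^ n := dvd_trans (by norm_num) hd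
        exact absurd (Nat.prime_three.dvd_of_dvd_pow h3) (by norm_num)
      rw [eq_bot_iff]
      intro r hr
      refine Subgroup.mem_bot.2 (Cfsg.Agent.Forms.Aut42.omega_centralizer fun h hh => ?_)
      have hc : r * h * r⁻¹ * h⁻¹ ∈ R := by
        have := R.mul_mem hr (hRn.conj_mem _ (R.inv_mem hr) h)
        convert this using 1
        group
      have hcΩ : r * h * r⁻¹ * h⁻¹ ∈ Cfsg.Omega (ZMod 2) ⇑F6 :=
        mul_mem ((inferInstance : (Cfsg.Omega (ZMod 2) ⇑F6).Normal).conj_mem h hh r) (inv_mem hh)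
      have h1 : (⟨_, hcΩ⟩ : ↥(Cfsg.Omega (ZMod 2) ⇑F6)) ∈ R.subgroupOf (Cfsg.Omega (ZMod 2) ⇑F6) := hc
      rw [hmeet, Subgroup.mem_bot] at h1
      have h2 : r * h * r⁻¹ * h⁻¹ = 1 := congrArg Subtype.val h1
      calc r * h = r * h * r⁻¹ * h⁻¹ * (h * r) := by group
        _ = h * r := by rw [h2, one_mul]
    rw [MonoidHom.mem_ker, ← Subgroup.mem_bot, ← hRO]
    exact Subgroup.mem_map_of_mem f hg

end Cfsg.Agent.ThreeTransp.M22Outer
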