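import Cfsg.Agent.Lib.ThreeTransp.M22Outer.Chain
import Cfsg.Agent.Lib.ThreeTransp.M22Outer.Hom
import Cfsg.Agent.Lib.ThreeTransp.M22Outer.CentCheck
import Cfsg.Agent.Lib.Sp6Mult.Upper

/-!
The fixed subgroup of the second representative: it is the centraliser of the first transposition in
the fixed subgroup of the first one, and it is the product of a group of order two and the symplectic
group in dimension six over the field with two elements.
-/

set_option autoImplicit false
set_option linter.all false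
set_option maxRecDepth 100000

noncomputable section

namespace Cfsg.Agent.ThreeTransp.M22Outer

open Matrix
open Cfsg.Agent.CosetCert
open Cfsg.Agent.InvChar.Coset Cfsg.Agent.InvChar.Coset.Fi22B Cfsg.Agent.InvChar.Coset.FiUnit
  Cfsg.Agent.InvChar.Coset.FiOut
open Cfsg.Agent.Forms.SympStd
open Tables

local notation "FG" => Cfsg.Agent.InvChar.Coset.FiUnit.FiG
local notation "Sp6" => Matrix.symplecticGroup (Fin 3) (ZMod 2)
local notation "V6" => (Fin 3 ⊕ Fin 3 → ZMod 2)

attribute [local irreducible] sel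

theorem pw_one : pw (repW 1) = dd P0 := by
  rw [reps_ok.2.2.1, pw, pw, one_mul]
  exact congrArg dd (Fin.ext ((toPt_val (by norm_num)).trans pt_zero.1.symm))

theorem P0_val : (P0 : ℕ) = 0 := by
  rw [← bp_zero, bp_val (by norm_num), base_ok.2]

theorem fixedOne_eq : sel (fixT 1) 3510 = fixedOne := CosetCert.beqList_iff fixed_lists.1

theorem mem_fixedOne {x : ℕ} : x ∈ fixedOne ↔ x < 3510 ∧ fixT 1 x = true := by
  rw [← fixedOne_eq]; exact mem_sel

/-- The fixed subgroup of the second representative fixes the first transposition. -/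
theorem Cfix_one_fix {g : FG} (hg : g ∈ Cfix 1) : φ g P0 = P0 := by
  have i1 : ∀ x ∈ fixedOne, x = 0 ∨ ∃ y ∈ fixedOne, meets x y = false := by
    intro x hx
    have h := allB_spec isolated.1 x (by rw [fixedOne_eq]; exact hx)
    simp only [Bool.or_eq_true, Nat.beq_eq, anyB_iff, Bool.not_eq_true'] at h
    rcases h with h | ⟨y, hy, hy'⟩
    exacts [Or.inl h, Or.inr ⟨y, by rwa [fixedOne_eq] at hy, hy'⟩]
  have hmap : ∀ k : FG, k ∈ Cfix 1 → ∀ y ∈ fixedOne, (φ k (toPt y) : ℕ) ∈ fixedOne := fun k hk y hy =>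
    mem_fixedOne.2 ⟨lt_n _, Cfix_fixT (by norm_num) hk (by
      rw [toPt_val (mem_fixedOne.1 hy).1]; exact (mem_fixedOne.1 hy).2)⟩
  have h0 : (0 : ℕ) ∈ fixedOne := memB_iff.1 sp_all.2.2.1
  have e0 : toPt 0 = P0 := Fin.ext ((toPt_val (by norm_num)).trans P0_val.symm)
  rcases i1 _ (hmap g hg 0 h0) with h | ⟨y, hy, hxy⟩
  · rw [e0] at h
    exact Fin.ext (h.trans P0_val.symm)
  · exfalso
    have hz := hmap g⁻¹ (inv_mem hg) y hy
    have hm := allB_spec isolated.2.1 _ (by rw [fixedOne_eq]; exact hz)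
    have h2 := meets_conj g (toPt 0) (φ g⁻¹ (toPt y))
    rw [map_inv, ← Equiv.Perm.mul_apply, mul_inv_cancel, Equiv.Perm.one_apply,
      toPt_val (mem_fixedOne.1 hy).1, toPt_val (show (0 : ℕ) < 3510 by norm_num)] at h2
    rw [map_inv] at hm
    exact absurd ((h2.trans hm).symm.trans hxy) (by decide)

theorem mem_Cfix_one {g : FG} : g ∈ Cfix 1 ↔ g ∈ Cfix 0 ∧ φ g P0 = P0 := by
  have e : rep 1 g = psi (dd P0 * g * (dd P0)⁻¹) := by
    rw [rep, outerAut, pw_one]; rfl
  have e0 : rep 0 g = psi g := by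
    rw [rep, outerAut, reps_ok.2.1, pw, map_one, mul_one]
  have key : φ g P0 = P0 → dd P0 * g * (dd P0)⁻¹ = g := fun h => by
    have : Commute g (dd P0) := FiOut.commute_dd_iff.2 h
    rw [← this.eq, mul_inv_cancel_right]
  constructor
  · intro h
    have hf := Cfix_one_fix h
    refine ⟨?_, hf⟩
    have h' := mem_Cfix.1 h
    rw [e, key hf] at h'
    exact mem_Cfix.2 (e0.trans h')
  · rintro ⟨h, hf⟩
    have h' := mem_Cfix.1 h
    rw [e0] at h'
    exact mem_Cfix.2 (by rw [e, key hf, h'])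

theorem Cfix_one_eq : Cfix 1 = Hk 0 1 := by
  ext g
  rw [mem_Cfix_one]
  refine and_congr Iff.rfl ⟨fun h j hj => ?_, fun h => ?_⟩
  · rw [show j = 0 by omega, bp_zero]; exact h
  · rw [← bp_zero]; exact h 0 zero_lt_one

theorem card_split {r k : ℕ} (hr : r < 3) {fs : List Bool} {as bs : List (List ℕ)}
    {cs : List (List (List ℕ))} (h : stepsOK r k fs as bs cs = true) (hk : k < 5) {b : List ℕ}
    {l : List ℕ} (hb : bs.map List.length = b.length :: l) :
    Nat.card (Hk r k) = b.length * Nat.card (Hk r (k + 1)) := by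
  rcases fs with _ | ⟨f, fs⟩ <;> rcases as with _ | ⟨a, as⟩ <;> rcases bs with _ | ⟨b', bs⟩ <;>
    rcases cs with _ | ⟨c, cs⟩ <;> simp [stepsOK] at h hb
  rw [card_step hr hk h.1, hb.1]

theorem card_Cfix_one : Nat.card (Cfix 1) = 2903040 := by
  have h := card_split (r := 0) (by norm_num) chain_s.1 (by norm_num)
    (b := List.replicate 360 0) (l := [63, 32, 15, 8]) (by rw [chain_lengths.1, List.length_replicate])
  rw [Hk_zero, card_Cfix.1, List.length_replicate, ← Cfix_one_eq] at h
  omega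

/-! ### The two homomorphisms -/

/-- A vector from its code. -/
def dv (n : ℕ) : V6 := Sum.elim (fun i => (bitN n i : ZMod 2)) (fun i => (bitN n (3 + i) : ZMod 2))

theorem dv_xor (a b : ℕ) : dv (Nat.xor a b) = dv a + dv b := by
  funext i
  rcases i with i | i <;> exact xor_cast _

theorem sfN_cast (a b : ℕ) : ((sfN a b : ℕ) : ZMod 2) = Cfsg.sympForm 3 (ZMod 2) (dv a) (dv b) := by
  have e : ∀ x y : ZMod 2, x - y = y + x := by decide
  rw [sympForm_eq]
  simp only [sfN, ZMod.natCast_mod, Nat.cast_add, Nat.cast_mul, dv, Fin.sum_univ_three, Sum.elim_inl,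
    Sum.elim_inr, e, Fin.val_zero, Fin.val_one, Fin.val_two]

theorem dv_tvN (a b : ℕ) : dv (tvN a b) = (tv (dv a) (1 : ZMod 2) : Matrix _ _ _) *ᵥ dv b := by
  rw [tv_mulVec, one_mul, ← sfN_cast, tvN]
  have h2 : sfN b a < 2 := Nat.mod_lt _ (by norm_num)
  obtain h | h : sfN b a = 0 ∨ sfN b a = 1 := by omega
  · rw [h]
    show dv b = _
    simp
  · rw [h]
    show dv (Nat.xor b a) = _
    rw [dv_xor]
    simp

theorem dv_surj : ∀ v : V6, ∃ n < 64, dv n = v := by decide +kernel

set_option maxHeartbeats 1000000 in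
theorem exists_sp : ∃ f : Kgen fixedOne →* Sp6, Function.Surjective f ∧
    f ⟨dd (toPt 0), dd_mem_Kgen (memB_iff.1 sp_all.2.2.1)⟩ = 1 := by
  have hlt : ∀ x ∈ fixedOne, x < 3510 := fun x hx => (mem_fixedOne.1 hx).1
  obtain ⟨f, hf, -⟩ := exists_hom (fun (A : Sp6) (v : V6) => (A : Matrix _ _ _) *ᵥ v)
    (fun v => one_mulVec v) (fun a b v => mul_mulVec_sp a b v) fixedOne fixedOne hlt hlt
    (fun x => dv (code1 x)) (fun x => tv (dv (code1 x)) 1)
    (fun x hx y hy => by
      have h := allB_spec sp_ok x hx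
      simp only [Bool.and_eq_true] at h
      have h' := allB_spec h.2 y hy
      simp only [Bool.and_eq_true, Nat.beq_eq] at h'
      exact ⟨memB_iff.1 h'.1, by rw [h'.2, dv_tvN]⟩)
    (fun t ht => sp_ext fun v => by
      obtain ⟨n, hn, rfl⟩ := dv_surj v
      obtain ⟨x, hx, hxn⟩ := anyB_iff.1 (scan_spec _ sp_all.2.1 n hn)
      rw [Nat.beq_eq] at hxn
      rw [← hxn]
      exact (ht x hx).trans (one_mulVec _).symm)
  refine ⟨f, fun A => ?_, ?_⟩
  · have hA : A ∈ Subgroup.closure (tvSet (F := ZMod 2) (m := 3) ∅) := by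
      rw [closure_tvSet_eq_top]; exact Subgroup.mem_top A
    have hle : Subgroup.closure (tvSet (F := ZMod 2) (m := 3) ∅) ≤ f.range := by
      rw [Subgroup.closure_le]
      rintro A ⟨w, c, -, hA⟩
      obtain ⟨n, hn, rfl⟩ := dv_surj w
      obtain ⟨x, hx, hxn⟩ := anyB_iff.1 (scan_spec _ sp_all.2.1 n hn)
      rw [Nat.beq_eq] at hxn
      rcases (show ∀ c : ZMod 2, c = 0 ∨ c = 1 by decide) c with rfl | rfl
      · refine ⟨1, ?_⟩
        rw [map_one]
        refine sp_ext fun v => ?_
        rw [hA, transvection_mulVec]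
        simp
      · refine ⟨⟨dd (toPt x), dd_mem_Kgen hx⟩, ?_⟩
        rw [hf x hx, hxn]
        exact Subtype.ext hA.symm
    exact hle hA
  · rw [hf 0 (memB_iff.1 sp_all.2.2.1)]
    refine sp_ext fun v => ?_
    rw [sp_all.2.2.2, show dv 0 = 0 by decide, tv_mulVec]
    simp

theorem exists_sign : ∃ f : Kgen fixedOne →* Multiplicative (ZMod 2),
    f ⟨dd (toPt 0), dd_mem_Kgen (memB_iff.1 sp_all.2.2.1)⟩ = Multiplicative.ofAdd 1 := by
  have hlt : ∀ x ∈ fixedOne, x < 3510 := fun x hx => (mem_fixedOne.1 hx).1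
  have hA : ∀ c ∈ halfOne, c < 3510 := fun c hc => by
    simpa [Nat.blt_eq] using allB_spec half_disjoint.2.1 c hc
  have hB : ∀ c ∈ halfTwo, memB c halfOne = false ∧ c < 3510 := fun c hc => by
    simpa [Nat.blt_eq] using allB_spec half_disjoint.1 c hc
  have h2578 : 2578 ∈ halfOne := memB_iff.1 half_disjoint.2.2
  obtain ⟨f, hf, -⟩ := exists_hom
    (fun (e : Multiplicative (ZMod 2)) (v : ZMod 2) => Multiplicative.toAdd e + v)
    (fun v => zero_add v) (fun a b v => by simp [add_assoc]) fixedOne (halfOne ++ halfTwo) hlt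
    (fun y hy => (List.mem_append.1 hy).elim (hA y) fun h => (hB y h).2)
    (fun c => if memB c halfOne = true then 0 else 1) (fun _ => Multiplicative.ofAdd 1)
    (fun x hx y hy => by
      have h := allB_spec half_ok x hx
      simp only [Bool.and_eq_true] at h
      rcases List.mem_append.1 hy with hy | hy
      · have h' := memB_iff.1 (allB_spec h.1 y hy)
        refine ⟨List.mem_append.2 (Or.inr h'), ?_⟩
        rw [if_neg (by rw [(hB _ h').1]; decide), if_pos (memB_iff.2 hy)]
        decide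
      · have h' := memB_iff.1 (allB_spec h.2 y hy)
        refine ⟨List.mem_append.2 (Or.inl h'), ?_⟩
        rw [if_pos (memB_iff.2 h'), if_neg (by rw [(hB _ hy).1]; decide)]
        decide)
    (fun t ht => by
      have h := ht 2578 (List.mem_append.2 (Or.inl h2578))
      rw [add_eq_right] at h
      exact h)
  exact ⟨f, hf 0 (memB_iff.1 sp_all.2.2.1)⟩

theorem center_sp_bot : Subgroup.center Sp6 = ⊥ := by
  have h := Classical.Symplectic.natCard_center (F := ZMod 2) (m := 3) (by norm_num)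
  rw [ZMod.card] at h
  exact Subgroup.eq_bot_of_card_eq _ (h.trans (by norm_num))

theorem card_sp6 : Nat.card Sp6 = 1451520 := by
  rw [Classical.Symplectic.natCard_sp, ZMod.card]
  norm_num [Finset.prod_range_succ]

/-- The second centraliser. -/
theorem Cfix_one_iso : Nonempty (↥(Cfix 1) ≃* Multiplicative (ZMod 2) × Cfsg.PSp 3 (ZMod 2)) := by
  haveI : Finite FG := finite_Fi
  obtain ⟨f, hfs, hfa⟩ := exists_sp
  obtain ⟨χ, hχa⟩ := exists_sign
  have hle : Kgen fixedOne ≤ Cfix 1 := by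
    refine (Subgroup.closure_le _).2 ?_
    rintro _ ⟨x, hx, rfl⟩
    exact dd_mem_Cfix (by norm_num) (mem_fixedOne.1 hx).1 (mem_fixedOne.1 hx).2
  let F : Kgen fixedOne →* Multiplicative (ZMod 2) × Sp6 := χ.prod f
  have hF : Function.Surjective F := by
    rintro ⟨e, A⟩
    obtain ⟨g, hg⟩ := hfs A
    set a : Kgen fixedOne := ⟨dd (toPt 0), dd_mem_Kgen (memB_iff.1 sp_all.2.2.1)⟩
    by_cases he : χ g = e
    · exact ⟨g, Prod.ext he hg⟩
    · refine ⟨a * g, Prod.ext ?_ ?_⟩
      · show χ (a * g) = e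
        rw [map_mul, hχa]
        exact (show ∀ u v : Multiplicative (ZMod 2), u ≠ v → Multiplicative.ofAdd 1 * u = v by decide) _ _ he
      · show f (a * g) = A
        rw [map_mul, hfa, one_mul, hg]
  have hc : Nat.card (Multiplicative (ZMod 2) × Sp6) = 2903040 := by
    rw [Nat.card_prod, card_sp6, Nat.card_congr Multiplicative.toAdd, Nat.card_zmod]
  have h1 := Nat.card_le_card_of_surjective F hF
  have h2 := Nat.card_le_card_of_injective _ (Subgroup.inclusion_injective hle)
  rw [hc] at h1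
  rw [card_Cfix_one] at h2
  have hK : Kgen fixedOne = Cfix 1 := Subgroup.eq_of_le_of_card_ge hle (by rw [card_Cfix_one]; exact h1)
  have hbij : Function.Bijective F :=
    (Nat.bijective_iff_surjective_and_card F).2 ⟨hF, by rw [hc]; omega⟩
  let q : Cfsg.PSp 3 (ZMod 2) ≃* Sp6 :=
    (QuotientGroup.quotientMulEquivOfEq center_sp_bot).trans QuotientGroup.quotientBot
  exact ⟨(MulEquiv.subgroupCongr hK.symm).trans ((MulEquiv.ofBijective F hbij).trans
    (MulEquiv.prodCongr (MulEquiv.refl _) q.symm))⟩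

end Cfsg.Agent.ThreeTransp.M22Outer
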