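import Cfsg.Agent.Lib.ThreeTransp.M22Outer.Outer
import Cfsg.Agent.Lib.ThreeTransp.M22Outer.Full
import Cfsg.Agent.Lib.ThreeTransp.M22Outer.Symp
import Cfsg.Agent.Lib.ThreeTransp.M22Outer.Minus

/-!
The outer involutions of the presented group Fi22 and their centralisers, collected.
-/

set_option autoImplicit false
set_option linter.all false
set_option maxRecDepth 100000

noncomputable section

namespace Cfsg.Agent.ThreeTransp.M22Outer

open Cfsg.Agent.InvChar.Coset Cfsg.Agent.InvChar.Coset.Fi22B Cfsg.Agent.InvChar.Coset.FiUnit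
  Cfsg.Agent.InvChar.Coset.FiOut
open Cfsg.Agent.ThreeTransp.Fi22Model (DD dd_mem grp primitive type22)

local notation "FG" => Cfsg.Agent.InvChar.Coset.FiUnit.FiG

/-- The first chosen transposition. -/
def ea : FG := dd P0

/-- The second chosen transposition. -/
def eb : FG := dd (toPt 92)

theorem rep_zero : rep 0 = psi := by
  rw [rep, outerAut, reps_ok.2.1, pw, map_one, mul_one]

theorem rep_one_eq : rep 1 = psi * MulAut.conj ea := by
  rw [rep, outerAut, pw_one]; rfl

theorem commute_ab : Commute ea eb := by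
  rw [ea, eb, ← meets_iff, toPt_val (by norm_num), P0_val]
  exact reps_ok.2.2.2.2.1

theorem rep_two_eq : rep 2 = psi * MulAut.conj (ea * eb) := by
  rw [rep, outerAut, reps_ok.2.2.2.1, commute_ab.eq]
  simp only [pw, one_mul, ea, eb]
  rw [show toPt 0 = P0 from Fin.ext ((toPt_val (by norm_num)).trans P0_val.symm)]

theorem psi_ea : psi ea = ea := by
  rw [ea, psi_dd]
  exact congrArg dd (Fin.ext sigma_ok.2)

theorem psi_eb : psi eb = eb := by
  rw [eb, psi_dd]
  exact congrArg dd (Fin.ext (show σ (toPt 92 : ℕ) = _ by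
    rw [toPt_val (by norm_num)]; exact reps_ok.2.2.2.2.2))

theorem ea_ne_eb : ea ≠ eb := fun h => by
  have := congrArg Fin.val (dd_injective h)
  rw [P0_val, toPt_val (by norm_num)] at this
  exact absurd this (by norm_num)

theorem psi_ne_one : psi ≠ 1 := fun h => psi_not_inner 1 (by rw [map_one, h])

theorem rep_isConj {t : MulAut FG} (ht : t * t = 1) (hout : ∀ g : FG, t ≠ MulAut.conj g) :
    IsConj t psi ∨ IsConj t (psi * MulAut.conj ea) ∨ IsConj t (psi * MulAut.conj (ea * eb)) := by
  obtain ⟨r, hr, h⟩ := outer_class ht hout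
  rw [← rep_two_eq, ← rep_one_eq, ← rep_zero]
  interval_cases r <;> tauto

theorem mem_Cfix_one_iff {g : FG} :
    rep 1 g = g ↔ g ∈ Cfix 0 ⊓ Subgroup.centralizer ({ea} : Set FG) := by
  rw [← mem_Cfix, mem_Cfix_one, Subgroup.mem_inf, Subgroup.mem_centralizer_singleton_iff]
  refine and_congr Iff.rfl ?_
  rw [← FiOut.commute_dd_iff]
  exact ⟨fun h => h.eq, fun h => h⟩

end Cfsg.Agent.ThreeTransp.M22Outer
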