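import Cfsg.Agent.Lib.ThreeTransp.M22Outer.Stab
import Cfsg.Agent.Lib.ThreeTransp.M22Outer.Frame

/-!
Every outer involution of the presented group Fi22 is conjugate to one of three representatives, and
the representatives are told apart by the number of transpositions they fix.
-/

set_option autoImplicit false
set_option linter.all false
set_option maxRecDepth 100000

noncomputable section

namespace Cfsg.Agent.ThreeTransp.M22Outer

open Cfsg.Agent.CosetCert
open Cfsg.Agent.InvChar.Coset Cfsg.Agent.InvChar.Coset.Fi22B Cfsg.Agent.InvChar.Coset.FiUnit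
  Cfsg.Agent.InvChar.Coset.FiOut
open Cfsg.Agent.ThreeTransp.Fi22Model (DD dd_mem mem_DD grp primitive type22)

local notation "FG" => Cfsg.Agent.InvChar.Coset.FiUnit.FiG

theorem base_pattern : ∀ k : Fin 5, ∀ j : Fin 5, j < k →
    meets (base j) (base k) = !decide (((j : ℕ) = 1 ∧ (k : ℕ) = 2) ∨ ((j : ℕ) = 3 ∧ (k : ℕ) = 4)) := by
  decide +kernel

/-- The classes of outer involutions. -/
theorem outer_class {t : MulAut FG} (ht : t * t = 1) (hout : ∀ g : FG, t ≠ MulAut.conj g) :
    ∃ r < 3, IsConj t (rep r) := by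
  haveI : Finite FG := finite_Fi
  obtain ⟨q, hq, hinj, hpat⟩ := exists_frame_fixed grp primitive type22 (α := t)
    (fun x => by rw [← MulAut.mul_apply, ht, MulAut.one_apply])
    (fun h => by obtain ⟨g, hg⟩ := M22Aut.inner_iff.1 h; exact hout g hg)
  choose x hx using fun k => mem_DD (hq k).1
  let qn : ℕ → Fin table.n := fun k => if h : k < 5 then x ⟨k, h⟩ else P0
  obtain ⟨g, hg⟩ := to_base qn fun k hk j hj => by
    have hj5 : j < 5 := hj.trans hk
    simp only [qn, dif_pos hk, dif_pos hj5]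
    refine ⟨fun e => ?_, ?_⟩
    · have h' : (⟨k, hk⟩ : Fin 5) = ⟨j, hj5⟩ := hinj (by rw [← hx, ← hx, e])
      rw [Fin.mk.injEq] at h'
      omega
    have hb := base_pattern ⟨k, hk⟩ ⟨j, hj5⟩ (Fin.mk_lt_mk.2 hj)
    have h := hpat ⟨j, hj5⟩ ⟨k, hk⟩ (Fin.mk_lt_mk.2 hj)
    rw [← hx, ← hx, ← meets_iff] at h
    rw [hb, Bool.eq_iff_iff, h, Bool.not_eq_true', decide_eq_false_iff_not]
  obtain ⟨t', ht'⟩ : ∃ t' : MulAut FG, t' = MulAut.conj g * t * (MulAut.conj g)⁻¹ := ⟨_, rfl⟩
  have hc : IsConj t t' := isConj_iff.2 ⟨_, ht'.symm⟩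
  obtain ⟨r, hr, k, hk⟩ := outer_cases (t := t') (by
      rw [ht']
      calc _ = MulAut.conj g * (t * t) * (MulAut.conj g)⁻¹ := by group
        _ = 1 := by rw [ht, mul_one, mul_inv_cancel])
    (fun m e => hout (g⁻¹ * m * g) (by
      rw [map_mul, map_mul, map_inv, ← e, ht']; group))
    (fun k hk => by
      rw [← hg k hk, ← conj_dd, ht', MulAut.mul_apply, MulAut.mul_apply, MulAut.conj_apply,
        MulAut.conj_inv_apply]
      rw [show g⁻¹ * (g * dd (qn k) * g⁻¹) * g = dd (qn k) by group]
      simp only [qn, dif_pos hk]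
      rw [hx, (hq ⟨k, hk⟩).2])
  exact ⟨r, hr, hc.trans (isConj_iff.2 ⟨_, hk⟩)⟩

theorem card_fixed {r : ℕ} (hr : r < 3) :
    Nat.card {x : Fin table.n // rep r (dd x) = dd x} = countB (fun x => fixT r x) 3510 := by
  have e : ∀ x : Fin table.n, rep r (dd x) = dd x ↔ (fun y => fixT r y) (x : ℕ) = true :=
    rep_fix_iff hr
  rw [Nat.card_congr (Equiv.subtypeEquivRight e), ← countB_eq _ 3510]
  exact Nat.card_congr ((finCongr n_eq).subtypeEquiv fun x => Iff.rfl)

/-- The representatives lie in different classes. -/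
theorem rep_not_conj {r r' : ℕ} (hr : r < 3) (hr' : r' < 3) (hne : r ≠ r') :
    ¬ IsConj (rep r) (rep r') := by
  intro h
  haveI : Finite FG := finite_Fi
  obtain ⟨α, hα⟩ := isConj_iff.1 h
  choose f hf using fun x => mem_DD ((M22Aut.mem_iff grp primitive type22 α).2 (dd_mem x))
  have hinj : Function.Injective f := fun x y e => dd_injective (α.injective (by rw [← hf, ← hf, e]))
  have hbij : Function.Bijective f := Finite.injective_iff_bijective.1 hinj
  have hcard : Nat.card {x : Fin table.n // rep r (dd x) = dd x} =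
      Nat.card {x : Fin table.n // rep r' (dd x) = dd x} := by
    refine Nat.card_congr ((Equiv.ofBijective f hbij).subtypeEquiv fun x => ?_)
    rw [Equiv.ofBijective_apply, hf, ← hα, MulAut.mul_apply, MulAut.mul_apply, MulAut.inv_apply_self]
    exact α.injective.eq_iff.symm
  rw [card_fixed hr, card_fixed hr'] at hcard
  obtain ⟨c0, c1, c2⟩ := fixed_counts
  interval_cases r <;> interval_cases r' <;>
    first | exact hne rfl | (simp only [show (fun x => fixT 0 x) = fun x => Nat.beq (tau 0 x) x from rfl,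
      show (fun x => fixT 1 x) = fun x => Nat.beq (tau 1 x) x from rfl,
      show (fun x => fixT 2 x) = fun x => Nat.beq (tau 2 x) x from rfl, c0, c1, c2] at hcard; omega)

end Cfsg.Agent.ThreeTransp.M22Outer
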