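import Cfsg.Agent.InvChar.Coset.FiOut
import Cfsg.Agent.Lib.ThreeTransp.Fi22Model.Type
import Cfsg.Agent.Lib.ThreeTransp.M22Outer.Check

/-!
The checked tables read in the presented group Fi22: the outer automorphism on transpositions,
products of transpositions, and the three representatives.
-/

set_option autoImplicit false
set_option linter.all false
set_option maxRecDepth 100000

noncomputable section

namespace Cfsg.Agent.ThreeTransp.M22Outer

open Cfsg.Agent.CosetCert
open Cfsg.Agent.InvChar.Coset Cfsg.Agent.InvChar.Coset.Fi22B Cfsg.Agent.InvChar.Coset.FiUnit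
  Cfsg.Agent.InvChar.Coset.FiOut
open Cfsg.Agent.ThreeTransp.Fi22Model (DD dd_mem mem_DD grp)

local notation "FG" => Cfsg.Agent.InvChar.Coset.FiUnit.FiG

theorem allB_spec {f : ℕ → Bool} : ∀ {l : List ℕ}, allB f l = true → ∀ x ∈ l, f x = true
  | [], _, x, hx => by simp at hx
  | y :: l, h, x, hx => by
    simp only [allB, Bool.and_eq_true] at h
    rcases List.mem_cons.1 hx with rfl | hx
    exacts [h.1, allB_spec h.2 x hx]

theorem anyB_iff {f : ℕ → Bool} : ∀ {l : List ℕ}, anyB f l = true ↔ ∃ x ∈ l, f x = true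
  | [] => by simp [anyB]
  | y :: l => by simp [anyB, anyB_iff (f := f) (l := l)]

theorem mem_sel {f : ℕ → Bool} : ∀ {n x : ℕ}, x ∈ sel f n ↔ x < n ∧ f x = true
  | 0, x => by simp [sel]
  | n + 1, x => by
    rw [sel]
    cases h : f n
    · simp only [cond_false, mem_sel (f := f) (n := n)]
      exact ⟨fun ⟨a, b⟩ => ⟨by omega, b⟩, fun ⟨a, b⟩ => ⟨lt_of_le_of_ne (Nat.lt_succ_iff.1 a)
        (fun e => by rw [e, h] at b; exact Bool.noConfusion b), b⟩⟩
    · simp only [cond_true, List.mem_cons, mem_sel (f := f) (n := n)]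
      constructor
      · rintro (rfl | ⟨a, b⟩)
        exacts [⟨by omega, h⟩, ⟨by omega, b⟩]
      · rintro ⟨a, b⟩
        rcases eq_or_lt_of_le (Nat.lt_succ_iff.1 a) with e | e
        exacts [Or.inl e, Or.inr ⟨e, b⟩]

theorem sel_nodup (f : ℕ → Bool) : ∀ n, (sel f n).Nodup
  | 0 => List.nodup_nil
  | n + 1 => by
    rw [sel]
    cases f n
    · exact sel_nodup f n
    · exact List.nodup_cons.2 ⟨fun h => lt_irrefl n (mem_sel.1 h).1, sel_nodup f n⟩

/-- A number as a point. -/
def toPt (x : ℕ) : Fin table.n := if h : x < 3510 then ⟨x, n_eq ▸ h⟩ else P0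

theorem toPt_val {x : ℕ} (h : x < 3510) : (toPt x : ℕ) = x := by rw [toPt, dif_pos h]

theorem toPt_self (c : Fin table.n) : toPt (c : ℕ) = c := Fin.ext (toPt_val (lt_n c))

/-- The product of the listed transpositions, the first one acting first. -/
def pw : List ℕ → FG
  | [] => 1
  | x :: w => pw w * dd (toPt x)

/-- The listed points are points. -/
abbrev Small (w : List ℕ) : Prop := ∀ x ∈ w, x < 3510

theorem small_of_wordOK {P : ℕ → Bool} {w : List ℕ} (h : wordOK P w = true) :
    Small w ∧ ∀ x ∈ w, P x = true := by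
  have h' := allB_spec h
  simp only [Bool.and_eq_true, Nat.blt_eq] at h'
  exact ⟨fun x hx => (h' x hx).1, fun x hx => (h' x hx).2⟩

theorem phi_pw : ∀ {w : List ℕ}, Small w → ∀ c : Fin table.n, (φ (pw w) c : ℕ) = runW w c
  | [], _, c => by rw [pw, map_one]; rfl
  | x :: w, h, c => by
    rw [pw, map_mul, Equiv.Perm.mul_apply, phi_pw (fun y hy => h y (List.mem_cons_of_mem _ hy)),
      phi_dd, toPt_val (h x List.mem_cons_self), runW]

theorem pw_append : ∀ (u v : List ℕ), pw (u ++ v) = pw v * pw u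
  | [], v => by simp [pw]
  | x :: u, v => by simp only [List.cons_append, pw, pw_append u v, mul_assoc]

theorem pw_reverse : ∀ w : List ℕ, pw w.reverse = (pw w)⁻¹
  | [] => by simp [pw]
  | x :: w => by
    rw [List.reverse_cons, pw_append, pw_reverse w, pw, pw, pw, one_mul, mul_inv_rev,
      inv_eq_of_mul_eq_one_left (dd_sq _)]

theorem small_reverse {w : List ℕ} (h : Small w) : Small w.reverse :=
  fun x hx => h x (List.mem_reverse.1 hx)

theorem σ_lt (c : Fin table.n) : σ c < table.n := by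
  have h := scan_spec _ sigma_ok.1 c (lt_n c)
  simp only [σOne, Bool.and_eq_true, Nat.blt_eq] at h
  exact lt_of_lt_of_eq h.1 n_eq.symm

/-- The outer automorphism on points. -/
def σf (c : Fin table.n) : Fin table.n := ⟨σ c, σ_lt c⟩

theorem σf_σf (c : Fin table.n) : σf (σf c) = c := by
  have h := scan_spec _ sigma_ok.1 c (lt_n c)
  simp only [σOne, Bool.and_eq_true] at h
  exact Fin.ext (Nat.eq_of_beq_eq_true h.2.1)

theorem σGen_spec {c : ℕ} : ∀ {m : ℕ}, σGen c m = true → ∀ l < m,
    σ (table.tgt c l) = table.run (dword (other l)) (σ c)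
  | 0, _, l, hl => absurd hl (by omega)
  | m + 1, h, l, hl => by
    simp only [σGen, Bool.and_eq_true] at h
    rcases Nat.lt_succ_iff_lt_or_eq.1 hl with e | rfl
    exacts [σGen_spec h.2 l e, Nat.eq_of_beq_eq_true h.1]

theorem other_lt' {l : ℕ} (hl : l < 9) : other l < table.n := by
  have := scan_spec _ other_facts.1 l hl
  rw [n_eq]
  simpa [Nat.blt_eq] using this

theorem psi_gen {l : ℕ} (hl : l < 9) : psi (data.gen l) = dd ⟨other l, other_lt' hl⟩ := psiHom_gen hl

theorem letters_wprod {l : ℕ} (hl : l < 9) (c : Fin table.n) :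
    (φ (data.gen l) c : ℕ) = table.tgt c l := by
  have h := phi_word (w := [l]) (by simp [lettersOK, Nat.blt_eq, hl]) c
  rwa [show wprod data.gen [l] = data.gen l from one_mul _] at h

/-- The outer automorphism carries transpositions as `σ` says. -/
theorem psi_dd (x : Fin table.n) : psi (dd x) = dd (σf x) := by
  have key : ∀ (w : List ℕ) (c : Fin table.n), lettersOK 9 w = true → psi (dd c) = dd (σf c) →
      ∀ e : Fin table.n, (e : ℕ) = table.run w c → psi (dd e) = dd (σf e) := by
    intro w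
    induction w with
    | nil => intro c _ hc e he; rw [show e = c from Fin.ext he]; exact hc
    | cons l w ih =>
      intro c hw hc e he
      simp only [lettersOK, Bool.and_eq_true, Nat.blt_eq] at hw
      refine ih (φ (data.gen l) c) hw.2 ?_ e (by rw [he, letters_wprod hw.1]; rfl)
      rw [← conj_dd, map_mul, map_mul, map_inv, hc, psi_gen hw.1, conj_dd]
      refine congrArg dd (Fin.ext ?_)
      rw [phi_dd]
      show table.run (dword (other l)) (σ c) = σ (φ (data.gen l) c : ℕ)
      rw [letters_wprod hw.1]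
      have h := scan_spec _ sigma_ok.1 c (lt_n c)
      simp only [σOne, Bool.and_eq_true] at h
      exact (σGen_spec h.2.2 l hw.1).symm
  have h0 : psi (dd P0) = dd (σf P0) := by
    have e0 : σf P0 = P0 := Fin.ext sigma_ok.2
    rw [e0]
    have h := psi_cg ⟨0, by norm_num⟩
    rwa [cg_eq, op_small (show ((⟨0, by norm_num⟩ : Fin 9) : ℕ) < 4 by norm_num),
      show cp ⟨0, by norm_num⟩ = P0 from Fin.ext pt_zero.1] at h
  exact key (path x) P0 (path_spec (lt_n x)).1 h0 x (path_spec (lt_n x)).2.symm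

/-- An automorphism followed by inner data. -/
def outerAut (w : List ℕ) : MulAut FG := psi * MulAut.conj (pw w)

theorem outerAut_dd {w : List ℕ} (hw : Small w) (x : Fin table.n) :
    ∃ e : Fin table.n, outerAut w (dd x) = dd e ∧ (e : ℕ) = σ (runW w x) := by
  refine ⟨σf (φ (pw w) x), ?_, ?_⟩
  · rw [outerAut, MulAut.mul_apply, MulAut.conj_apply, conj_dd, psi_dd]
  · show σ (φ (pw w) x : ℕ) = _
    rw [phi_pw hw]

/-- Automorphisms agreeing on the chosen transpositions are equal. -/
theorem aut_eq {α β : MulAut FG} (h : ∀ k : Fin 9, α (dd (cp k)) = β (dd (cp k))) : α = β :=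
  aut_ext fun k => by rw [cg_eq]; exact h k

theorem psi_sq : psi * psi = 1 := aut_eq fun k => by
  rw [MulAut.mul_apply, psi_dd, psi_dd, σf_σf]; rfl

theorem rep_spec {r : ℕ} (hr : r < 3) : Small (repW r) ∧ ∀ x ∈ repW r, σ x = x := by
  have h := scan_spec _ reps_ok.1 r hr
  simp only [Bool.and_eq_true] at h
  exact ⟨(small_of_wordOK h.1).1, fun x hx => Nat.eq_of_beq_eq_true ((small_of_wordOK h.1).2 x hx)⟩

/-- The representative automorphism. -/
def rep (r : ℕ) : MulAut FG := outerAut (repW r)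

theorem rep_dd {r : ℕ} (hr : r < 3) (x : Fin table.n) :
    ∃ e : Fin table.n, rep r (dd x) = dd e ∧ (e : ℕ) = tau r x := outerAut_dd (rep_spec hr).1 x

theorem tau_lt {r : ℕ} (hr : r < 3) {x : ℕ} (hx : x < 3510) : tau r x < 3510 := by
  obtain ⟨e, -, he⟩ := rep_dd hr (toPt x)
  rw [toPt_val hx] at he
  exact he ▸ lt_n e

theorem rep_sq {r : ℕ} (hr : r < 3) : rep r * rep r = 1 := aut_eq fun k => by
  obtain ⟨e, he, hv⟩ := rep_dd hr (cp k)
  obtain ⟨f, hf, hw⟩ := rep_dd hr e
  rw [MulAut.mul_apply, he, hf, MulAut.one_apply]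
  refine congrArg dd (Fin.ext ?_)
  have h := scan_spec _ reps_ok.1 r hr
  simp only [Bool.and_eq_true] at h
  rw [hw, hv]
  exact Nat.eq_of_beq_eq_true (scan_spec _ h.2 k k.2)

theorem rep_not_inner (r : ℕ) (g : FG) : rep r ≠ MulAut.conj g := by
  intro h
  refine psi_not_inner (g * (pw (repW r))⁻¹) ?_
  rw [map_mul, map_inv, ← h, rep, outerAut, mul_inv_cancel_right]

theorem rep_fix_iff {r : ℕ} (hr : r < 3) (x : Fin table.n) :
    rep r (dd x) = dd x ↔ fixT r x = true := by
  obtain ⟨e, he, hv⟩ := rep_dd hr x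
  rw [he, fixT, Nat.beq_eq, ← hv, dd_injective.eq_iff, Fin.ext_iff]

end Cfsg.Agent.ThreeTransp.M22Outer
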