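import Cfsg.Agent.Lib.ThreeTransp.M22Outer.Points

/-!
The base of five transpositions: transitivity, the thirty-six elements fixing it, and the classes of
the outer involutions fixing it.
-/

set_option autoImplicit false
set_option linter.all false
set_option maxRecDepth 100000

noncomputable section

namespace Cfsg.Agent.ThreeTransp.M22Outer

open Cfsg.Agent.CosetCert
open Cfsg.Agent.InvChar.Coset Cfsg.Agent.InvChar.Coset.Fi22B Cfsg.Agent.InvChar.Coset.FiUnit
  Cfsg.Agent.InvChar.Coset.FiOut
open Tables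

local notation "FG" => Cfsg.Agent.InvChar.Coset.FiUnit.FiG

attribute [local irreducible] sel

theorem forall₂_imp {α β : Type} {R S : α → β → Prop} {l₁ : List α} {l₂ : List β}
    (h : List.Forall₂ R l₁ l₂) : (∀ a ∈ l₁, ∀ b, R a b → S a b) → List.Forall₂ S l₁ l₂ := by
  induction h with
  | nil => exact fun _ => List.Forall₂.nil
  | cons hab _ ih =>
    exact fun H => List.Forall₂.cons (H _ List.mem_cons_self _ hab)
      (ih fun a ha => H a (List.mem_cons_of_mem _ ha))

/-- The base points. -/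
def bp (k : ℕ) : Fin table.n := toPt (base k)

theorem base_lt {k : ℕ} (hk : k < 5) : base k < 3510 ∧ σ (base k) = base k := by
  have h := scan_spec _ base_ok.1 k hk
  simp only [Bool.and_eq_true, Nat.blt_eq] at h
  exact ⟨h.1, Nat.eq_of_beq_eq_true h.2⟩

theorem bp_val {k : ℕ} (hk : k < 5) : (bp k : ℕ) = base k := toPt_val (base_lt hk).1

theorem bp_zero : bp 0 = P0 := Fin.ext ((bp_val (by norm_num)).trans base_ok.2)

theorem patB_iff {m x : ℕ} : ∀ {k : ℕ}, patB m x k = true ↔
    ∀ j < k, x ≠ base j ∧ meets (base j) x = meets (base j) (base m)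
  | 0 => by simp [patB]
  | k + 1 => by
    simp only [patB, Bool.and_eq_true, patB_iff (k := k), Bool.not_eq_true', Nat.forall_lt_succ_right]
    have e : beqB (meets (base k) x) (meets (base k) (base m)) = true ↔
        meets (base k) x = meets (base k) (base m) :=
      ⟨beqB_eq, fun h => by rw [h]; cases meets (base k) (base m) <;> rfl⟩
    rw [e, ← Bool.not_eq_true, Nat.beq_eq]
    tauto

theorem fullB_iff {y x : ℕ} : ∀ {k : ℕ}, fullB y x k = true ↔
    ∀ j < k, x ≠ base j ∧ meets (base j) x = meets (base j) y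
  | 0 => by simp [fullB]
  | k + 1 => by
    simp only [fullB, Bool.and_eq_true, fullB_iff (k := k), Bool.not_eq_true', Nat.forall_lt_succ_right]
    have e : beqB (meets (base k) x) (meets (base k) y) = true ↔ meets (base k) x = meets (base k) y :=
      ⟨beqB_eq, fun h => by rw [h]; cases meets (base k) y <;> rfl⟩
    rw [e, ← Bool.not_eq_true, Nat.beq_eq]
    tauto

theorem fixBase_spec {w : List ℕ} : ∀ {k : ℕ}, fixBase w k = true → ∀ j < k, runW w (base j) = base j
  | 0, _, j, hj => absurd hj (by omega)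
  | k + 1, h, j, hj => by
    simp only [fixBase, Bool.and_eq_true] at h
    rcases Nat.lt_succ_iff_lt_or_eq.1 hj with e | rfl
    exacts [fixBase_spec h.2 j e, Nat.eq_of_beq_eq_true h.1]

theorem movesOK_spec {P : ℕ → Bool} {k : ℕ} : ∀ {l : List ℕ} {m : List (List ℕ)},
    movesOK P k l m = true → ∀ x ∈ l, ∃ w, wordOK P w = true ∧ runW w (base k) = x ∧ fixBase w k = true
  | [], [], _, x, hx => by simp at hx
  | [], _ :: _, h, _, _ => by simp [movesOK] at h
  | _ :: _, [], h, _, _ => by simp [movesOK] at h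
  | y :: l, w :: m, h, x, hx => by
    simp only [movesOK, Bool.and_eq_true] at h
    rcases List.mem_cons.1 hx with rfl | hx
    exacts [⟨w, h.1, Nat.eq_of_beq_eq_true h.2.1, h.2.2.1⟩, movesOK_spec h.2.2.2 x hx]

/-- A listed word as a group element moving the base point. -/
theorem elem_of_word {P : ℕ → Bool} {k : ℕ} (hk : k < 5) {x : Fin table.n} {w : List ℕ}
    (hw : wordOK P w = true) (hx : runW w (base k) = x) (hf : fixBase w k = true) :
    φ (pw w) (bp k) = x ∧ ∀ j < k, φ (pw w) (bp j) = bp j := by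
  have hs := (small_of_wordOK hw).1
  exact ⟨Fin.ext (by rw [phi_pw hs, bp_val hk, hx]), fun j hj => Fin.ext (by
    rw [phi_pw hs, bp_val (hj.trans hk), fixBase_spec hf j hj])⟩

theorem moves_spec {k : ℕ} (h1 : 1 ≤ k) (h4 : k ≤ 4) {x : Fin table.n}
    (hx : patB k x k = true) : ∃ g : FG, φ g (bp k) = x ∧ ∀ j < k, φ g (bp j) = bp j := by
  obtain ⟨keys, ws, h⟩ : ∃ keys ws, movesAt k keys ws = true := by
    interval_cases k
    exacts [⟨_, _, moves1⟩, ⟨_, _, moves2⟩, ⟨_, _, moves3⟩, ⟨_, _, moves4⟩]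
  simp only [movesAt, Bool.and_eq_true] at h
  obtain ⟨w, hw, hwx, hwf⟩ := movesOK_spec h.2 x
    (CosetCert.beqList_iff h.1 ▸ mem_sel.2 ⟨lt_n x, hx⟩)
  exact ⟨pw w, elem_of_word (by omega) hw hwx hwf⟩

theorem meets_conj (g : FG) (x y : Fin table.n) : meets (φ g x : ℕ) (φ g y) = meets (x : ℕ) y := by
  rw [Bool.eq_iff_iff, meets_iff, meets_iff, ← conj_dd, ← conj_dd, commute_conj]

/-- Five transpositions with the commutation pattern of the base are conjugate to it. -/
theorem to_base (q : ℕ → Fin table.n)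
    (hq : ∀ k < 5, ∀ j < k, q k ≠ q j ∧ meets (q j : ℕ) (q k) = meets (base j) (base k)) :
    ∃ g : FG, ∀ k < 5, φ g (q k) = bp k := by
  have key : ∀ m, m ≤ 5 → ∃ g : FG, ∀ k < m, φ g (q k) = bp k := by
    intro m
    induction m with
    | zero => exact fun _ => ⟨1, fun k hk => absurd hk (Nat.not_lt_zero k)⟩
    | succ m ih =>
      intro hm
      obtain ⟨g, hg⟩ := ih (by omega)
      obtain ⟨h, hh, hhj⟩ : ∃ h : FG, φ h (bp m) = φ g (q m) ∧ ∀ j < m, φ h (bp j) = bp j := by
        rcases Nat.eq_zero_or_pos m with rfl | hpos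
        · exact ⟨rp (φ g (q 0)), by rw [bp_zero, phi_rp], fun j hj => absurd hj (Nat.not_lt_zero j)⟩
        · refine moves_spec hpos (by omega) (patB_iff.2 fun j hj => ⟨fun e => ?_, ?_⟩)
          · exact (hq m (by omega) j hj).1 ((φ g).injective (by
              rw [hg j hj]; exact Fin.ext (e.trans (bp_val (by omega)).symm)))
          · rw [← (hq m (by omega) j hj).2, ← meets_conj g, hg j hj, bp_val (by omega)]
      refine ⟨h⁻¹ * g, fun k hk => ?_⟩
      rw [map_mul, Equiv.Perm.mul_apply, map_inv, Equiv.Perm.inv_eq_iff_eq]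
      rcases Nat.lt_succ_iff_lt_or_eq.1 hk with e | rfl
      exacts [by rw [hg k e, hhj k e], hh.symm]
  exact key 5 le_rfl

theorem compat_map {img : ℕ → ℕ} {z o : ℕ} : ∀ {ps : List ℕ},
    (∀ p ∈ ps, z ≠ img p ∧ meets (img p) z = meets p o) → compat z o (ps.map img) ps = true
  | [], _ => rfl
  | p :: ps, h => by
    simp only [List.map_cons, compat, Bool.and_eq_true, Bool.not_eq_true']
    obtain ⟨h1, h2⟩ := h p List.mem_cons_self
    refine ⟨by rw [← Bool.not_eq_true, Nat.beq_eq]; exact h1, ?_,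
      compat_map fun q hq => h q (List.mem_cons_of_mem _ hq)⟩
    rw [h2]; cases meets p o <;> rfl

theorem mem_tailsFrom {img : ℕ → ℕ} : ∀ {os : List ℕ} {ls : List (List ℕ)} {ps : List ℕ},
    List.Forall₂ (fun o l => img o ∈ l) os ls →
    (ps ++ os).Pairwise (fun p o => img o ≠ img p ∧ meets (img p) (img o) = meets p o) →
    os.map img ∈ tailsFrom os ls (ps.map img) ps
  | [], _, ps, h, _ => by
    cases h
    simp [tailsFrom]
  | o :: os, _, ps, h, hp => by
    rcases h with _ | ⟨hmem, h⟩
    simp only [tailsFrom, List.map_cons, List.mem_flatMap, List.mem_map, List.mem_filter]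
    refine ⟨img o, ⟨hmem, compat_map fun p hp' =>
      (List.pairwise_append.1 hp).2.2 p hp' o List.mem_cons_self⟩, os.map img, ?_, rfl⟩
    have h' := mem_tailsFrom (ps := ps ++ [o]) h (by simpa using hp)
    simpa using h'

theorem candOK_spec : ∀ {ls : List (List ℕ)} {k : ℕ}, candOK k ls = true →
    List.Forall₂ (fun o l => sel (fun x => fullB o x 5) 3510 = l)
      ((List.range' k ls.length).map order) ls
  | [], _, _ => List.Forall₂.nil
  | l :: r, k, h => by
    simp only [candOK, Bool.and_eq_true] at h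
    exact List.Forall₂.cons (CosetCert.beqList_iff h.1) (candOK_spec h.2)

theorem order_facts : (List.range' 0 7).map order = orderL ∧ orderL.Nodup ∧
    (∀ o ∈ orderL, o < 3510) ∧ ∀ o ∈ orderL, ∀ j < 5, o ≠ base j := by decide +kernel

theorem tails_spec {q : List ℕ} (hq : q ∈ tailsL) : ∃ c < 72, orderL.map (coded c) = q := by
  have key : ∀ {L : List (List ℕ)} {m : List ℕ}, tailsOK L m = true → ∀ q ∈ L,
      ∃ c < 72, orderL.map (coded c) = q := by
    intro L
    induction L with
    | nil => intro m _ q hq; simp at hq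
    | cons a L ih =>
      intro m h q hq
      cases m with
      | nil => simp [tailsOK] at h
      | cons c m =>
        simp only [tailsOK, Bool.and_eq_true, Nat.blt_eq] at h
        rcases List.mem_cons.1 hq with rfl | hq
        exacts [⟨c, h.1, CosetCert.beqList_iff h.2.1⟩, ih h.2.2 q hq]
  exact key tails_ok q hq

theorem stabW_spec {i : ℕ} (hi : i < 36) :
    Small (stabW i) ∧ ∀ k < 5, φ (pw (stabW i)) (bp k) = bp k := by
  have h := scan_spec _ stab_ok i hi
  simp only [Bool.and_eq_true] at h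
  have hs := (small_of_wordOK h.1).1
  exact ⟨hs, fun k hk => Fin.ext (by rw [phi_pw hs, bp_val hk, fixBase_spec h.2 k hk])⟩

theorem cp_listed (k : Fin 9) : (∃ j < 5, cp k = bp j) ∨ (cp k : ℕ) ∈ orderL := by
  have h := scan_spec _ gens_listed k k.2
  rw [Bool.or_eq_true, memB_iff, memB_iff] at h
  rcases h with h | h
  · left
    have hb : ∀ x ∈ baseL, ∃ j, j < 5 ∧ base j = x := by decide +kernel
    obtain ⟨j, hj, e⟩ := hb _ h
    exact ⟨j, hj, Fin.ext (e.symm.trans (bp_val hj).symm)⟩
  · exact Or.inr h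

/-- The elements fixing the base. -/
theorem stab_elem {g : FG} (hg : ∀ k < 5, φ g (bp k) = bp k) : ∃ i < 36, g = pw (stabW i) := by
  let img : ℕ → ℕ := fun x => (φ g (toPt x) : ℕ)
  have hmem : List.Forall₂ (fun o l => img o ∈ l) orderL candL := by
    have h := candOK_spec cands_ok.1
    rw [cands_ok.2, order_facts.1] at h
    refine forall₂_imp h fun o ho l e => ?_
    rw [← e]
    refine mem_sel.2 ⟨lt_n _, fullB_iff.2 fun j hj => ?_⟩
    have ho' : (toPt o : ℕ) = o := toPt_val (order_facts.2.2.1 o ho)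
    refine ⟨fun e => order_facts.2.2.2 o ho j hj ?_, ?_⟩
    · have : φ g (toPt o) = φ g (bp j) := by rw [hg j hj]; exact Fin.ext (e.trans (bp_val hj).symm)
      rw [← ho', (φ g).injective this, bp_val hj]
    · have := meets_conj g (bp j) (toPt o)
      rwa [hg j hj, bp_val hj, ho'] at this
  have hpw : ([] ++ orderL).Pairwise (fun p o => img o ≠ img p ∧ meets (img p) (img o) = meets p o) := by
    refine List.Pairwise.imp_of_mem (fun {p o} hp ho hne => ?_) order_facts.2.1
    have hp' : (toPt p : ℕ) = p := toPt_val (order_facts.2.2.1 p hp)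
    have ho' : (toPt o : ℕ) = o := toPt_val (order_facts.2.2.1 o ho)
    refine ⟨fun e => hne ?_, ?_⟩
    · rw [← hp', ← ho', (φ g).injective (Fin.ext e)]
    · have := meets_conj g (toPt p) (toPt o)
      rwa [hp', ho'] at this
  obtain ⟨c, hc, hcq⟩ := tails_spec (q := orderL.map img) (by
    have h := mem_tailsFrom hmem hpw
    rw [List.map_nil] at h
    rw [tailsL]
    exact h)
  have hci : c / 2 < 36 := by omega
  obtain ⟨hs, hfix⟩ := stabW_spec hci
  have hord : ∀ x ∈ orderL, coded c x = img x := List.map_inj_left.1 hcq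
  rcases Nat.mod_two_eq_zero_or_one c with hev | hodd
  · refine ⟨c / 2, hci, mul_inv_eq_one.1 (eq_one_of_fix fun k => ?_)⟩
    have heq : ∀ m : Fin 9, φ g (cp m) = φ (pw (stabW (c / 2))) (cp m) := fun m => by
      rcases cp_listed m with ⟨j, hj, e⟩ | hk
      · rw [e, hg j hj, hfix j hj]
      · refine Fin.ext ?_
        rw [phi_pw hs]
        have h := hord _ hk
        rw [coded, show Nat.mod c 2 = 0 from hev] at h
        change runW (stabW (c / 2)) (cp m : ℕ) = (φ g (toPt (cp m : ℕ)) : ℕ) at h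
        rw [toPt_self] at h
        exact h.symm
    have h1 : (pw (stabW (c / 2)))⁻¹ * g = 1 := eq_one_of_fix fun m => by
      rw [map_mul, Equiv.Perm.mul_apply, map_inv, heq m, Equiv.Perm.inv_eq_iff_eq]
    rw [inv_mul_eq_one.1 h1, mul_inv_cancel, map_one, Equiv.Perm.one_apply]
  · exfalso
    refine psi_not_inner (g * (pw (stabW (c / 2)))⁻¹) ?_
    rw [map_mul, map_inv, mul_inv_eq_iff_eq_mul]
    refine aut_eq fun k => ?_
    obtain ⟨e, he, hv⟩ := outerAut_dd hs (cp k)
    rw [outerAut] at he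
    rw [he, MulAut.conj_apply, conj_dd]
    refine congrArg dd (Fin.ext ?_)
    rw [hv]
    rcases cp_listed k with ⟨j, hj, e'⟩ | hk
    · rw [e', hg j hj, ← phi_pw hs, hfix j hj, bp_val hj, (base_lt hj).2]
    · have h := hord _ hk
      rw [coded, show Nat.mod c 2 = 1 from hodd] at h
      change σ (runW (stabW (c / 2)) (cp k : ℕ)) = (φ g (toPt (cp k : ℕ)) : ℕ) at h
      rw [toPt_self] at h
      exact h.symm

/-- The three classes of outer involutions fixing the base. -/
theorem outer_cases {t : MulAut FG} (ht : t * t = 1) (hout : ∀ g : FG, t ≠ MulAut.conj g)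
    (hfix : ∀ k < 5, t (dd (bp k)) = dd (bp k)) :
    ∃ r < 3, ∃ g : FG, MulAut.conj g * t * (MulAut.conj g)⁻¹ = rep r := by
  obtain ⟨g, hg | hg⟩ := classify t
  · exact absurd hg (hout g)
  replace hg : t = psi * MulAut.conj (psi g) := by
    have hp : ∀ x, psi (psi x) = x := fun x => by rw [← MulAut.mul_apply, psi_sq, MulAut.one_apply]
    rw [hg]
    refine MulEquiv.ext fun x => ?_
    simp only [MulAut.mul_apply, MulAut.conj_apply, map_mul, map_inv, hp]
  obtain ⟨i, hi, hgi⟩ := stab_elem (g := psi g) fun k hk => by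
    have h := hfix k hk
    rw [hg, MulAut.mul_apply, MulAut.conj_apply, conj_dd, psi_dd] at h
    have e : σf (bp k) = bp k := Fin.ext (by
      show σ (bp k : ℕ) = _
      rw [bp_val hk, (base_lt hk).2])
    exact (Function.LeftInverse.injective σf_σf (dd_injective h |>.trans e.symm))
  rw [hgi] at hg
  obtain ⟨hs, -⟩ := stabW_spec hi
  have hauto : ∀ x : Fin table.n, ∃ e : Fin table.n, t (dd x) = dd e ∧ (e : ℕ) = autoI i x := by
    intro x
    obtain ⟨e, he, hv⟩ := outerAut_dd hs x
    exact ⟨e, by rw [hg]; exact he, hv⟩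
  have hc := scan_spec _ cls_ok i hi
  rw [clsOne] at hc
  cases hr : Nat.beq (nthNat clsRep i) 3
  · rw [hr, cond_false, Bool.and_eq_true, Bool.and_eq_true, Nat.blt_eq] at hc
    obtain ⟨hlt, hw, hscan⟩ := hc
    have hws := (small_of_wordOK hw).1
    refine ⟨_, hlt, pw (clsW i), aut_eq fun k => ?_⟩
    rw [MulAut.mul_apply, MulAut.mul_apply, ← map_inv, MulAut.conj_apply, MulAut.conj_apply,
      inv_inv, ← pw_reverse]
    rw [show pw (clsW i).reverse * dd (cp k) * pw (clsW i) =
      dd (φ (pw (clsW i).reverse) (cp k)) by rw [← conj_dd, pw_reverse, inv_inv]]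
    obtain ⟨e, he, hv⟩ := hauto (φ (pw (clsW i).reverse) (cp k))
    obtain ⟨f, hf, hfv⟩ := rep_dd hlt (cp k)
    rw [he, pw_reverse, conj_dd, hf]
    refine congrArg dd (Fin.ext ?_)
    rw [phi_pw hws, hv, phi_pw (small_reverse hws), hfv]
    exact Nat.eq_of_beq_eq_true (scan_spec _ hscan k k.2)
  · rw [hr, cond_true, Bool.and_eq_true, Nat.blt_eq] at hc
    exfalso
    obtain ⟨hlt, hne⟩ := hc
    rw [Bool.not_eq_true', ← Bool.not_eq_true, Nat.beq_eq] at hne
    refine hne ?_
    obtain ⟨e, he, hv⟩ := hauto (toPt (nthNat clsPoint i))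
    obtain ⟨f, hf, hw⟩ := hauto e
    have h2 : t (t (dd (toPt (nthNat clsPoint i)))) = dd (toPt (nthNat clsPoint i)) := by
      rw [← MulAut.mul_apply, ht, MulAut.one_apply]
    rw [he, hf] at h2
    rw [dd_injective h2, toPt_val hlt] at hw
    rw [hv, toPt_val hlt] at hw
    exact hw.symm

end Cfsg.Agent.ThreeTransp.M22Outer
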